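import Mathlib
import Cfsg.Agent.H915.LD
import Cfsg.Agent.H637.JW

/-!
# From cores to representations over the algebraic closure (helper879)

* `scalars_bot_of_odd` : a core that fixes a quadratic form in odd dimension contains no scalars;
* `Core.no_trivial` : `P ≃ T` and every representation of `T` of degree `|ι|` over the algebraic closure is trivial: contradiction;
* `Core.no_fixed` : the same if every such representation has a non-zero fixed vector.
-/

set_option autoImplicit false
set_option linter.unusedSectionVars false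

namespace Cfsg.Agent.H879.TL

open Module Matrix Cfsg Cfsg.Geo Cfsg.Agent.H915.LD Cfsg.Agent.H637.JW

universe u v

variable {ι : Type} [Fintype ι] [DecidableEq ι] {F : Type u} [Field F] {P : Subgroup (GL ι F)}

theorem exists_ne_of_nondeg [Nonempty ι] {Q : (ι → F) → F} (hQ : IsNondegenerateQuadraticForm Q) : ∃ v, Q v ≠ 0 := by
  by_contra h
  push Not at h
  obtain ⟨i⟩ := ‹Nonempty ι›
  have h1 : (Pi.single i 1 : ι → F) ≠ 0 := by
    intro h0
    have := congrFun h0 i
    rw [Pi.single_eq_same] at this
    exact one_ne_zero this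
  obtain ⟨⟨x, hx⟩, _⟩ := hQ.nondegenerate _ h1
  apply hx
  rw [QuadraticMap.polar, h, h, h, sub_zero, sub_zero]

theorem scalars_bot_of_odd (hC : Core P) (hQ : FixQ P) (hodd : Odd (Fintype.card ι)) :
    (scalars ι F).subgroupOf P = ⊥ := by
  have := hC.nonempty
  obtain ⟨Q, hQ, hP⟩ := hQ
  rw [Subgroup.eq_bot_iff_forall]
  intro z hz
  rw [Subgroup.mem_subgroupOf, mem_scalars_iff] at hz
  obtain ⟨c, hc⟩ := hz
  have h1 := hC.scalar_pow z.2 hc
  obtain ⟨v, hv⟩ := exists_ne_of_nondeg hQ
  have h2 : Q (((z : GL ι F) : Matrix ι ι F) *ᵥ v) = Q v := hP _ ⟨z, z.2, rfl⟩ v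
  rw [hc, Matrix.smul_mulVec, Matrix.one_mulVec, hQ.smul] at h2
  have h3 : (c : F) ^ 2 = 1 := by
    have h4 : ((c : F) ^ 2 - 1) * Q v = 0 := by rw [sub_mul, h2, one_mul, sub_self]
    exact sub_eq_zero.1 ((mul_eq_zero.1 h4).resolve_right hv)
  obtain ⟨k, hk⟩ := hodd
  rw [hk, pow_succ, pow_mul, h3, one_pow, one_mul] at h1
  apply Subtype.ext
  apply Units.ext
  rw [hc, h1, one_smul]
  rfl

/-- the isomorphism with the socle -/
noncomputable def socEquiv (hbot : (scalars ι F).subgroupOf P = ⊥) : P ≃* Soc P :=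
  MulEquiv.ofBijective (toSoc P) ⟨by
    rw [← MonoidHom.ker_eq_bot_iff, ker_toSoc, hbot], toSoc_surjective P⟩

section Rep

variable (F ι) in
/-- matrices as endomorphisms over the algebraic closure -/
noncomputable def clo : GL ι F →* Module.End (AlgebraicClosure F) (ι → AlgebraicClosure F) :=
  ((Matrix.toLinAlgEquiv' (R := AlgebraicClosure F) (n := ι)).toAlgHom.toRingHom.toMonoidHom).comp
    ((((algebraMap F (AlgebraicClosure F)).mapMatrix : Matrix ι ι F →+* Matrix ι ι (AlgebraicClosure F)) :
      Matrix ι ι F →* Matrix ι ι (AlgebraicClosure F)).comp (Units.coeHom (Matrix ι ι F)))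

theorem clo_apply (g : GL ι F) (v : ι → AlgebraicClosure F) :
    clo ι F g v = ((g : Matrix ι ι F).map (algebraMap F (AlgebraicClosure F))) *ᵥ v := rfl

theorem clo_injective {g : GL ι F} (h : clo ι F g = 1) : g = 1 := by
  apply Units.ext
  have h1 : ∀ i j, algebraMap F (AlgebraicClosure F) ((g : Matrix ι ι F) i j) = (1 : Matrix ι ι (AlgebraicClosure F)) i j := by
    have h2 : ∀ v, ((g : Matrix ι ι F).map (algebraMap F (AlgebraicClosure F))) *ᵥ v = v := by
      intro v
      rw [← clo_apply, h]; rfl
    intro i j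
    have h3 := congrFun (h2 (Pi.single j 1)) i
    rw [Matrix.mulVec_single_one, Matrix.col_apply, Matrix.map_apply] at h3
    rw [h3, Pi.single_apply, Matrix.one_apply]
  ext i j
  apply (algebraMap F (AlgebraicClosure F)).injective
  rw [h1, Units.val_one, Matrix.one_apply, Matrix.one_apply]
  split_ifs <;> simp

/-- A common fixed vector over the algebraic closure gives one over the ground field. -/
theorem exists_fixed (S : Set (GL ι F)) {v : ι → AlgebraicClosure F} (hv : v ≠ 0)
    (h : ∀ g ∈ S, clo ι F g v = v) : ∃ w : ι → F, w ≠ 0 ∧ ∀ g ∈ S, (g : Matrix ι ι F) *ᵥ w = w := by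
  obtain ⟨i, hi⟩ : ∃ i, v i ≠ 0 := by
    by_contra hno
    push Not at hno
    exact hv (funext hno)
  obtain ⟨φ, hφ⟩ : ∃ φ : Module.Dual F (AlgebraicClosure F), φ (v i) ≠ 0 := by
    by_contra hno
    push Not at hno
    exact hi ((Module.forall_dual_apply_eq_zero_iff F (v i)).1 hno)
  refine ⟨fun j => φ (v j), fun h0 => hφ (congrFun h0 i), fun g hg => ?_⟩
  funext j
  have h1 := congrFun (h g hg) j
  rw [clo_apply] at h1
  rw [← h1]
  simp only [mulVec, dotProduct, map_apply]
  rw [map_sum]
  refine Finset.sum_congr rfl fun k _ => ?_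
  rw [← Algebra.smul_def, map_smul, smul_eq_mul]

theorem no_fixed_vector (hC : Core P) {w : ι → F} (hw : w ≠ 0) (h : ∀ g ∈ P, (g : Matrix ι ι F) *ᵥ w = w) : False := by
  have h1 := hC.absIrred.1 (Submodule.span F {w}) (by
    rintro _ ⟨g, hg, rfl⟩
    rw [Submodule.map_span_le]
    intro x hx
    rw [Set.mem_singleton_iff] at hx
    subst hx
    rw [Matrix.toLin'_apply]
    exact Submodule.mem_span_singleton.2 ⟨1, by rw [one_smul]; exact (h g hg).symm⟩)
  rcases h1 with h1 | h1
  · exact hw ((Submodule.mem_bot F).1 (h1 ▸ Submodule.mem_span_singleton_self w))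
  · have h2 := finrank_span_singleton (K := F) hw
    rw [h1, finrank_top, Module.finrank_fintype_fun_eq_card] at h2
    have := hC.two_le
    omega

variable {T : Type v} [Group T]

/-- the representation of `T ≃ P` -/
noncomputable def repOf (e : P ≃* T) : T →* Module.End (AlgebraicClosure F) (ι → AlgebraicClosure F) :=
  ((clo ι F).comp P.subtype).comp e.symm.toMonoidHom

theorem repOf_apply (e : P ≃* T) (g : P) : repOf e (e g) = clo ι F g := by
  change clo ι F (e.symm (e g) : P) = _
  rw [e.symm_apply_apply]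

/-- If all representations of `T` of this degree have a non-zero fixed vector, there is no core `P ≃ T`. -/
theorem no_fixed (hC : Core P) (e : P ≃* T) (hT : ∃ v : ι → AlgebraicClosure F, v ≠ 0 ∧ ∀ g, repOf e g v = v) :
    False := by
  obtain ⟨v, hv, h⟩ := hT
  obtain ⟨w, hw, hw2⟩ := exists_fixed (P : Set (GL ι F)) hv (fun g hg => by
    rw [← repOf_apply e ⟨g, hg⟩]
    exact h _)
  exact no_fixed_vector hC hw hw2

/-- If all representations of `T` of this degree are trivial, there is no core `P ≃ T`. -/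
theorem no_trivial (hC : Core P) (e : P ≃* T) (hT : ∀ g, repOf e g = 1) : False := by
  have := hC.nonempty
  obtain ⟨i⟩ := this
  refine no_fixed hC e ⟨Pi.single i 1, ?_, fun g => by rw [hT g, Module.End.one_apply]⟩
  intro h0
  have := congrFun h0 i
  rw [Pi.single_eq_same] at this
  exact one_ne_zero this

theorem finrank_clo : finrank (AlgebraicClosure F) (ι → AlgebraicClosure F) = Fintype.card ι :=
  Module.finrank_fintype_fun_eq_card _

theorem two_ne_clo (h2 : (2 : F) ≠ 0) : (2 : AlgebraicClosure F) ≠ 0 := by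
  intro h
  apply h2
  apply (algebraMap F (AlgebraicClosure F)).injective
  rw [map_ofNat, map_zero, h]

end Rep

end Cfsg.Agent.H879.TL
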