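import Mathlib
import Cfsg.Agent.H915.LD

/-!
# Reindexing cores (helper879)

`e : ι ≃ κ`, `P ≤ GL ι F`: `P.map (glReindex e)` is a core of `GL κ F` with the same socle, traces, invariant
quadratic forms.
-/

set_option autoImplicit false
set_option linter.unusedSectionVars false

namespace Cfsg.Agent.H879.Rx

open Matrix Cfsg Cfsg.Geo Cfsg.Agent.H915.LD

universe u

variable {ι κ : Type} [Fintype ι] [DecidableEq ι] [Fintype κ] [DecidableEq κ] {F : Type u} [Field F]
  (e : ι ≃ κ) {P : Subgroup (GL ι F)}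

/-- the reindexed group -/
def rx (P : Subgroup (GL ι F)) : Subgroup (GL κ F) := P.map (glReindex e).toMonoidHom

theorem coe_re (g : GL ι F) : ((glReindex e g : GL κ F) : Matrix κ κ F) = Matrix.reindex e e (g : Matrix ι ι F) := rfl

theorem mem_rx {g : GL κ F} : g ∈ rx e P ↔ ∃ h ∈ P, glReindex e h = g := Iff.rfl

theorem re_mem {g : GL ι F} (hg : g ∈ P) : glReindex e g ∈ rx e P := ⟨g, hg, rfl⟩

theorem re_mulVec (M : Matrix ι ι F) (v : ι → F) :
    Matrix.reindex e e M *ᵥ (v ∘ e.symm) = (M *ᵥ v) ∘ e.symm := by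
  rw [Matrix.reindex_apply]
  have := Matrix.submatrix_mulVec_equiv M (v ∘ e.symm) e.symm e.symm
  rw [this]
  congr 2
  funext i
  simp

theorem re_mul (M N : Matrix ι ι F) : Matrix.reindex e e (M * N) = Matrix.reindex e e M * Matrix.reindex e e N := by
  simp only [Matrix.reindex_apply, Matrix.submatrix_mul_equiv]

theorem matrixSet_rx : matrixSet (rx e P) = (Matrix.reindex e e) '' matrixSet P := by
  ext M
  constructor
  · rintro ⟨_, ⟨g, hg, rfl⟩, rfl⟩
    exact ⟨_, ⟨g, hg, rfl⟩, rfl⟩
  · rintro ⟨_, ⟨g, hg, rfl⟩, rfl⟩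
    exact ⟨_, ⟨g, hg, rfl⟩, rfl⟩

theorem scalar_re {g : GL ι F} : glReindex e g ∈ scalars κ F ↔ g ∈ scalars ι F := by
  rw [mem_scalars_iff, mem_scalars_iff]
  refine exists_congr fun c => ?_
  rw [coe_re]
  constructor
  · intro h
    apply (Matrix.reindex e e).injective
    rw [h]
    ext i j
    simp [Matrix.one_apply]
  · intro h
    rw [h]
    ext i j
    simp [Matrix.one_apply]

/-- the isomorphism `P ≃ rx P` -/
noncomputable def eqv (P : Subgroup (GL ι F)) : P ≃* rx e P :=
  P.equivMapOfInjective (glReindex e).toMonoidHom (glReindex e).injective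

theorem eqv_coe (g : P) : ((eqv e P g : rx e P) : GL κ F) = glReindex e g := rfl

theorem map_scalars : ((scalars ι F).subgroupOf P).map (eqv e P).toMonoidHom = (scalars κ F).subgroupOf (rx e P) := by
  ext x
  constructor
  · rintro ⟨g, hg, rfl⟩
    rw [SetLike.mem_coe, Subgroup.mem_subgroupOf] at hg
    rw [Subgroup.mem_subgroupOf]
    exact (scalar_re e).2 hg
  · intro hx
    rw [Subgroup.mem_subgroupOf] at hx
    refine ⟨(eqv e P).symm x, ?_, (eqv e P).apply_symm_apply x⟩
    rw [SetLike.mem_coe, Subgroup.mem_subgroupOf, ← scalar_re e, ← eqv_coe, (eqv e P).apply_symm_apply]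
    exact hx

/-- the socles are isomorphic -/
noncomputable def socEqv (P : Subgroup (GL ι F)) : Soc P ≃* Soc (rx e P) :=
  QuotientGroup.congr _ _ (eqv e P) (map_scalars e)

theorem rx_symm (P : Subgroup (GL ι F)) : rx e.symm (rx e P) = P := by
  ext g
  constructor
  · rintro ⟨_, ⟨h, hh, rfl⟩, rfl⟩
    have : (glReindex e.symm).toMonoidHom ((glReindex e).toMonoidHom h) = h := by
      apply Units.ext
      change Matrix.reindex e.symm e.symm (Matrix.reindex e e (h : Matrix ι ι F)) = h
      ext i j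
      simp
    rw [this]
    exact hh
  · intro hg
    refine ⟨_, ⟨g, hg, rfl⟩, ?_⟩
    apply Units.ext
    change Matrix.reindex e.symm e.symm (Matrix.reindex e e (g : Matrix ι ι F)) = g
    ext i j
    simp

theorem absIrred_rx (h : ActsAbsolutelyIrreducibly (matrixSet P)) : ActsAbsolutelyIrreducibly (matrixSet (rx e P)) := by
  rw [matrixSet_rx]
  constructor
  · intro W hW
    let L : (ι → F) ≃ₗ[F] (κ → F) := LinearEquiv.funCongrLeft F F e.symm
    have hL : ∀ v, L v = v ∘ e.symm := fun v => rfl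
    have h1 := h.1 (W.comap L.toLinearMap) (by
      intro s hs
      rintro _ ⟨v, hv, rfl⟩
      have h2 := hW _ ⟨s, hs, rfl⟩ ⟨L v, hv, rfl⟩
      rw [Matrix.toLin'_apply, hL, re_mulVec] at h2
      exact h2)
    rcases h1 with h1 | h1
    · left
      rw [Submodule.eq_bot_iff]
      intro w hw
      have : L.symm w ∈ W.comap L.toLinearMap := by
        change L (L.symm w) ∈ W
        rwa [L.apply_symm_apply]
      rw [h1, Submodule.mem_bot] at this
      rw [← L.apply_symm_apply w, this, map_zero]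
    · right
      rw [eq_top_iff]
      intro w _
      have : L.symm w ∈ W.comap L.toLinearMap := by rw [h1]; trivial
      change L (L.symm w) ∈ W at this
      rwa [L.apply_symm_apply] at this
  · intro M hM
    obtain ⟨c, hc⟩ := h.2 (Matrix.reindex e.symm e.symm M) (by
      intro s hs
      have h2 := hM _ ⟨s, hs, rfl⟩
      have h3 := congrArg (Matrix.reindex e.symm e.symm) h2
      rw [re_mul, re_mul] at h3
      have h4 : Matrix.reindex e.symm e.symm (Matrix.reindex e e s) = s := by ext i j; simp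
      rwa [h4] at h3)
    refine ⟨c, ?_⟩
    have h4 : M = Matrix.reindex e e (Matrix.reindex e.symm e.symm M) := by ext i j; simp
    rw [h4, hc]
    ext i j
    simp [Matrix.one_apply]

theorem realisable_rx {F₀ : Subfield F} (h : RealisableOver F₀ (matrixSet P)) :
    RealisableOver F₀ (matrixSet (rx e P)) := by
  obtain ⟨B, hB⟩ := h
  refine ⟨glReindex e B, ?_⟩
  rw [matrixSet_rx]
  rintro _ ⟨s, hs, rfl⟩ i j
  have h1 : ((glReindex e B : GL κ F) : Matrix κ κ F) * Matrix.reindex e e s *
      (((glReindex e B)⁻¹ : GL κ F) : Matrix κ κ F) = Matrix.reindex e e ((B : Matrix ι ι F) * s * ((B⁻¹ : GL ι F) : Matrix ι ι F)) := by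
    rw [← map_inv, coe_re, coe_re, re_mul, re_mul]
  rw [h1]
  exact hB s hs _ _

theorem core_rx (hC : Core P) : Core (rx e P) where
  perfect := by
    unfold rx
    rw [← Subgroup.map_commutator, hC.perfect]
  simple := by
    have := hC.simple
    exact (socEqv e P).symm.isSimpleGroup
  nonabelian := by
    intro h
    apply hC.nonabelian
    refine ⟨⟨fun a b => ?_⟩⟩
    apply (socEqv e P).injective
    rw [map_mul, map_mul]
    exact h.is_comm.comm _ _
  absIrred := absIrred_rx e hC.absIrred
  no_subfield := by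
    intro F₀ hF₀ h
    refine hC.no_subfield F₀ hF₀ ?_
    have := realisable_rx e.symm h
    rwa [rx_symm] at this

theorem trace_re (g : GL ι F) : tr (glReindex e g) = tr g := by
  unfold tr
  rw [coe_re]
  simp only [Matrix.trace, Matrix.diag_apply, Matrix.reindex_apply, Matrix.submatrix_apply]
  exact Equiv.sum_comp e.symm (fun i => (g : Matrix ι ι F) i i)

theorem sd_rx (h : SD P) : SD (rx e P) := by
  rintro _ ⟨g, hg, rfl⟩
  change tr ((glReindex e g)⁻¹) = tr (glReindex e g)
  rw [← map_inv, trace_re, trace_re, h g hg]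

theorem fixQ_rx (h : FixQ P) : FixQ (rx e P) := by
  obtain ⟨Q, hQ, hP⟩ := h
  refine ⟨fun v => Q (v ∘ e), ⟨?_, ?_, ?_⟩, ?_⟩
  · intro c v
    exact hQ.smul c (v ∘ e)
  · constructor
    · intro x y v; exact hQ.polar_bilinear.add_left _ _ _
    · intro c x v; exact hQ.polar_bilinear.smul_left c _ _
    · intro v x y; exact hQ.polar_bilinear.add_right _ _ _
    · intro c v x; exact hQ.polar_bilinear.smul_right c _ _
  · intro v hv
    have hv' : v ∘ e ≠ 0 := by
      intro h0
      apply hv
      funext k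
      have := congrFun h0 (e.symm k)
      simpa using this
    obtain ⟨⟨x, hx⟩, ⟨y, hy⟩⟩ := hQ.nondegenerate _ hv'
    refine ⟨⟨x ∘ e.symm, ?_⟩, ⟨y ∘ e.symm, ?_⟩⟩
    · intro h0
      apply hx
      rw [← h0]
      simp only [QuadraticMap.polar]
      congr 2 <;> (try congr 1) <;> (try (funext i; simp))
    · intro h0
      apply hy
      rw [← h0]
      simp only [QuadraticMap.polar]
      congr 2 <;> (try congr 1) <;> (try (funext i; simp))
  · rw [matrixSet_rx]
    rintro _ ⟨s, hs, rfl⟩ v
    have h1 := re_mulVec e s (v ∘ e)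
    have h2 : (v ∘ e) ∘ e.symm = v := by funext i; simp
    rw [h2] at h1
    change Q ((Matrix.reindex e e s *ᵥ v) ∘ e) = Q (v ∘ e)
    rw [h1]
    have h3 : ((s *ᵥ (v ∘ e)) ∘ e.symm) ∘ e = s *ᵥ (v ∘ e) := by funext i; simp
    rw [h3]
    exact hP s hs _

end Cfsg.Agent.H879.Rx
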