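import Mathlib
import Cfsg.Agent.H637.JW

/-!
# Sign frames in groups acting on small spaces of odd characteristic (helper879)

A *frame* `Fr ι G` is a family `e i j` (`i j : ι`) of elements of `G` with `e i j * e j k = e i k`, `e i j = e j i`
("change the signs of the coordinates `i` and `j`"). `Sym F` : every even permutation of `ι` is induced by conjugation.
If `G` acts on a space of dimension at most `9` over an algebraically closed field of characteristic `≠ 2` and `ι = Fin 5`
then the space is the sum of the fixed space of the frame and of five isomorphic weight spaces `U (some i)`, of dimension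
at most one, such that `e j k` is `-1` on `U (some i)` iff exactly one of `j`, `k` is `i`.
-/

set_option autoImplicit false
set_option linter.unusedSectionVars false

namespace Cfsg.Agent.H879.TL

open Module Equiv Equiv.Perm Cfsg.Agent.H637.JW

/-- A family of sign changes. -/
structure Fr (ι : Type*) (G : Type*) [Group G] where
  e : ι → ι → G
  mul : ∀ i j k, e i j * e j k = e i k
  symm : ∀ i j, e i j = e j i

namespace Fr

variable {ι κ G H : Type*} [Group G] [Group H] (f : Fr ι G)

theorem self (i : ι) : f.e i i = 1 := by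
  have h := f.mul i i i
  exact mul_eq_left.1 h

theorem sq (i j : ι) : f.e i j * f.e i j = 1 := by
  have h := f.mul i j i
  rwa [f.symm j i, f.self] at h

theorem comm (i j k l : ι) : f.e i j * f.e k l = f.e k l * f.e i j := by
  have key : ∀ a b, f.e i a * f.e i b = f.e i b * f.e i a := by
    intro a b
    rw [f.symm i a, f.mul, f.symm a i, f.symm i b, f.mul, f.symm]
  have h1 : ∀ a b, f.e a b = f.e i a * f.e i b := by
    intro a b
    rw [f.symm i a, f.mul]
  rw [h1 i j, h1 k l, f.self, one_mul, ← mul_assoc, key j k, mul_assoc, key j l, ← mul_assoc]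

/-- restriction to coordinates -/
def comap (a : κ → ι) : Fr κ G where
  e i j := f.e (a i) (a j)
  mul _ _ _ := f.mul _ _ _
  symm _ _ := f.symm _ _

/-- image under a homomorphism -/
def map (φ : G →* H) : Fr ι H where
  e i j := φ (f.e i j)
  mul _ _ _ := by rw [← map_mul, f.mul]
  symm _ _ := by rw [f.symm]

/-- Even permutations of the coordinates are induced by conjugation. -/
def Sym [Fintype ι] [DecidableEq ι] : Prop :=
  ∀ π : Perm ι, sign π = 1 → ∃ s : G, ∀ i j, s * f.e i j * s⁻¹ = f.e (π i) (π j)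

theorem Sym.map [Fintype ι] [DecidableEq ι] {f : Fr ι G} (h : f.Sym) (φ : G →* H) : (f.map φ).Sym := by
  intro π hπ
  obtain ⟨s, hs⟩ := h π hπ
  refine ⟨φ s, fun i j => ?_⟩
  change φ s * φ (f.e i j) * (φ s)⁻¹ = φ (f.e (π i) (π j))
  rw [← hs, map_mul, map_mul, map_inv]

theorem Sym.comap [Fintype ι] [DecidableEq ι] [Fintype κ] [DecidableEq κ] {f : Fr ι G} (h : f.Sym) (a : κ ↪ ι) :
    (f.comap a).Sym := by
  intro π hπ
  obtain ⟨s, hs⟩ := h (π.viaFintypeEmbedding a) (by rw [Perm.viaFintypeEmbedding_sign, hπ])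
  refine ⟨s, fun i j => ?_⟩
  change s * f.e (a i) (a j) * s⁻¹ = f.e (a (π i)) (a (π j))
  rw [hs, Perm.viaFintypeEmbedding_apply_image, Perm.viaFintypeEmbedding_apply_image]

end Fr

/-! ### Weight spaces -/

section Weights

variable {ι G : Type*} [Group G] {K : Type*} [Field K] {V : Type*} [AddCommGroup V] [Module K V]

/-- The weight space of `c : ι → ZMod 2`. -/
def wt (σ : G →* Module.End K V) (f : Fr ι G) (c : ι → ZMod 2) : Submodule K V :=
  ⨅ i, ⨅ j, (σ (f.e i j)).eigenspace ((-1) ^ (c i + c j).val)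

variable {σ : G →* Module.End K V} {f : Fr ι G}

theorem mem_wt {c : ι → ZMod 2} {v : V} : v ∈ wt σ f c ↔ ∀ i j, σ (f.e i j) v = (-1 : K) ^ (c i + c j).val • v := by
  simp [wt, Submodule.mem_iInf]

theorem neg_one_pow_add (a b : ZMod 2) : (-1 : K) ^ (a + b).val = (-1) ^ a.val * (-1) ^ b.val :=
  pow_val_add (N := 2) (by norm_num) a b

theorem map_wt {c : ι → ZMod 2} {s : G} {π : Perm ι} (hs : ∀ i j, s * f.e i j * s⁻¹ = f.e (π i) (π j)) {v : V}
    (hv : v ∈ wt σ f c) : σ s v ∈ wt σ f (fun i => c (π.symm i)) := by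
  rw [mem_wt] at hv ⊢
  intro i j
  have h1 : f.e i j = s * f.e (π.symm i) (π.symm j) * s⁻¹ := by
    rw [hs, Equiv.apply_symm_apply, Equiv.apply_symm_apply]
  rw [h1, ← mul_apply', inv_mul_cancel_right, mul_apply', hv, map_smul]

theorem finrank_wt_le [FiniteDimensional K V] {c : ι → ZMod 2} {s : G} {π : Perm ι}
    (hs : ∀ i j, s * f.e i j * s⁻¹ = f.e (π i) (π j)) :
    finrank K (wt σ f c) ≤ finrank K (wt σ f (fun i => c (π.symm i))) :=
  finrank_le_of_map (σ := σ) s fun _ hv => map_wt hs hv

theorem finrank_wt_perm [Fintype ι] [DecidableEq ι] [FiniteDimensional K V] (hf : f.Sym) {c c' : ι → ZMod 2}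
    {π : Perm ι} (hπ : sign π = 1) (h : ∀ i, c' (π i) = c i) :
    finrank K (wt σ f c) = finrank K (wt σ f c') := by
  apply le_antisymm
  · obtain ⟨s, hs⟩ := hf π hπ
    have h1 := finrank_wt_le (σ := σ) (c := c) hs
    have h2 : (fun i => c (π.symm i)) = c' := by
      funext i
      rw [← h, Equiv.apply_symm_apply]
    rwa [h2] at h1
  · obtain ⟨s, hs⟩ := hf π⁻¹ (by rw [sign_inv, hπ])
    have h1 := finrank_wt_le (σ := σ) (c := c') hs
    have h2 : (fun i => c' ((π⁻¹).symm i)) = c := by
      funext i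
      exact h i
    rwa [h2] at h1

end Weights

/-! ### Even permutations -/

section Even

variable {ι : Type*} [Fintype ι] [DecidableEq ι]

theorem exists_even {i j k l : ι} (hij : i ≠ j) (hkl : k ≠ l) (h : 4 ≤ Fintype.card ι) :
    ∃ π : Perm ι, sign π = 1 ∧ π i = k ∧ π j = l := by
  have h1 : ∃ π : Perm ι, π i = k ∧ π j = l := by
    refine ⟨swap (swap i k j) l * swap i k, ?_, ?_⟩
    · rw [Perm.mul_apply, swap_apply_left]
      refine swap_apply_of_ne_of_ne ?_ hkl
      intro h0
      apply hij
      have : swap i k i = swap i k j := by rw [swap_apply_left]; exact h0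
      exact (swap i k).injective this
    · rw [Perm.mul_apply, swap_apply_left]
  obtain ⟨π, h2, h3⟩ := h1
  rcases Int.units_eq_one_or (sign π) with h4 | h4
  · exact ⟨π, h4, h2, h3⟩
  · have h5 : 2 ≤ (Finset.univ \ {k, l} : Finset ι).card := by
      rw [Finset.card_sdiff_of_subset (Finset.subset_univ _), Finset.card_univ, Finset.card_pair hkl]
      omega
    obtain ⟨x, hx, y, hy, hxy⟩ := Finset.one_lt_card.1 (lt_of_lt_of_le one_lt_two h5)
    rw [Finset.mem_sdiff, Finset.mem_insert, Finset.mem_singleton, not_or] at hx hy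
    refine ⟨swap x y * π, by rw [Perm.sign_mul, sign_swap hxy, h4]; rfl, ?_, ?_⟩
    · rw [Perm.mul_apply, h2, swap_apply_of_ne_of_ne (Ne.symm hx.2.1) (Ne.symm hy.2.1)]
    · rw [Perm.mul_apply, h3, swap_apply_of_ne_of_ne (Ne.symm hx.2.2) (Ne.symm hy.2.2)]

theorem exists_even_one (i k : ι) (h : 4 ≤ Fintype.card ι) : ∃ π : Perm ι, sign π = 1 ∧ π i = k := by
  have : Nontrivial ι := Fintype.one_lt_card_iff_nontrivial.1 (by omega)
  obtain ⟨j, hj⟩ := exists_ne i
  obtain ⟨l, hl⟩ := exists_ne k
  obtain ⟨π, h1, h2, _⟩ := exists_even hj.symm hl.symm h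
  exact ⟨π, h1, h2⟩

end Even

/-! ### Five coordinates -/

section Five

variable {G : Type*} [Group G] {K : Type*} [Field K] {V : Type*} [AddCommGroup V] [Module K V]
  {σ : G →* Module.End K V} {f : Fr (Fin 5) G}

theorem wt_eq_W (c : Fin 5 → ZMod 2) (hc : c 4 = 0) :
    wt σ f c = W 2 (-1 : K) (fun k : Fin 4 => σ (f.e k.castSucc 4)) (fun k => c k.castSucc) := by
  ext v
  rw [mem_wt, mem_W]
  constructor
  · intro h k
    have := h k.castSucc 4
    rwa [hc, add_zero] at this
  · intro h
    have h1 : ∀ i : Fin 5, σ (f.e i 4) v = (-1 : K) ^ (c i).val • v := by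
      intro i
      refine Fin.lastCases ?_ (fun k => h k) i
      change σ (f.e 4 4) v = _
      rw [f.self, map_one, show c (Fin.last 4) = 0 from hc]
      simp
    intro i j
    rw [← f.mul i 4 j, f.symm 4 j, act_mul (h1 i) (h1 j), neg_one_pow_add]

theorem wt_add_one (c : Fin 5 → ZMod 2) : wt σ f (fun i => c i + 1) = wt σ f c := by
  ext v
  rw [mem_wt, mem_wt]
  have : ∀ i j, c i + 1 + (c j + 1) = c i + c j := by
    intro i j
    have h : (1 : ZMod 2) + 1 = 0 := by decide
    linear_combination h
  simp only [this]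

/-- the weights of a set of coordinates -/
def ch (S : Finset (Fin 5)) : Fin 5 → ZMod 2 := fun i => if i ∈ S then 1 else 0

variable [FiniteDimensional K V]

/-- dimension of the weight space of a single coordinate -/
noncomputable def d1 (σ : G →* Module.End K V) (f : Fr (Fin 5) G) : ℕ := finrank K (wt σ f (ch {0}))
/-- dimension of the weight space of a pair of coordinates -/
noncomputable def d2 (σ : G →* Module.End K V) (f : Fr (Fin 5) G) : ℕ := finrank K (wt σ f (ch {0, 1}))

theorem finrank_one (hf : f.Sym) (i : Fin 5) : finrank K (wt σ f (ch {i})) = d1 σ f := by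
  obtain ⟨π, h1, h2⟩ := exists_even_one i (0 : Fin 5) (by simp)
  refine finrank_wt_perm hf h1 fun j => ?_
  have : (π j ∈ ({0} : Finset (Fin 5))) ↔ j ∈ ({i} : Finset (Fin 5)) := by
    rw [Finset.mem_singleton, Finset.mem_singleton, ← h2, π.injective.eq_iff]
  simp only [ch, this]

theorem finrank_two (hf : f.Sym) {i j : Fin 5} (hij : i ≠ j) : finrank K (wt σ f (ch {i, j})) = d2 σ f := by
  obtain ⟨π, h1, h2, h3⟩ := exists_even hij (show (0 : Fin 5) ≠ 1 by decide) (by simp)
  refine finrank_wt_perm hf h1 fun k => ?_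
  have : (π k ∈ ({0, 1} : Finset (Fin 5))) ↔ k ∈ ({i, j} : Finset (Fin 5)) := by
    rw [Finset.mem_insert, Finset.mem_singleton, Finset.mem_insert, Finset.mem_singleton]
    constructor
    · rintro (h | h)
      · exact Or.inl (π.injective (by rw [h, h2]))
      · exact Or.inr (π.injective (by rw [h, h3]))
    · rintro (h | h)
      · rw [h, h2]; exact Or.inl rfl
      · rw [h, h3]; exact Or.inr rfl
  simp only [ch, this]

/-- extension of weights by zero -/
def em (c : Fin 4 → ZMod 2) : Fin 5 → ZMod 2 := Fin.snoc c 0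

theorem em_last (c : Fin 4 → ZMod 2) : em c 4 = 0 := by
  change Fin.snoc (α := fun _ => ZMod 2) c 0 (Fin.last 4) = 0
  rw [Fin.snoc_last]

theorem em_castSucc (c : Fin 4 → ZMod 2) (k : Fin 4) : em c k.castSucc = c k :=
  Fin.snoc_castSucc (α := fun _ => ZMod 2) _ _ _

theorem wt_em (c : Fin 4 → ZMod 2) :
    wt σ f (em c) = W 2 (-1 : K) (fun k : Fin 4 => σ (f.e k.castSucc 4)) c := by
  rw [wt_eq_W _ (em_last c)]
  congr 1
  funext k
  exact em_castSucc c k

theorem em_cases (c : Fin 4 → ZMod 2) : em c = (fun _ => 0) ∨ (∃ i, em c = ch {i}) ∨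
    (∃ i, em c = fun k => ch {i} k + 1) ∨ (∃ i j, i ≠ j ∧ em c = ch {i, j}) ∨
    ∃ i j, i ≠ j ∧ em c = fun k => ch {i, j} k + 1 := by
  revert c
  decide

theorem sum_dims [IsAlgClosed K] (h2 : (2 : K) ≠ 0) (hf : f.Sym) :
    finrank K (wt σ f (fun _ => 0)) + 5 * d1 σ f + 10 * d2 σ f = finrank K V := by
  have h2' : ((2 : ℕ) : K) ≠ 0 := by exact_mod_cast h2
  have hζ : IsPrimitiveRoot (-1 : K) 2 := by
    refine IsPrimitiveRoot.neg_one (ringChar K) ?_
    intro h
    apply h2
    have h3 := CharP.cast_eq_zero K (ringChar K)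
    rw [h] at h3
    exact_mod_cast h3
  have hs := sum_W (K := K) (V := V) h2' hζ (f := fun k : Fin 4 => σ (f.e k.castSucc 4))
    (fun j k => by rw [← map_mul, ← map_mul, f.comm]) (fun k => by rw [sq, ← map_mul, f.sq, map_one])
  rw [← hs]
  have h3 : ∀ c : Fin 4 → ZMod 2, finrank K (W 2 (-1 : K) (fun k : Fin 4 => σ (f.e k.castSucc 4)) c) =
      finrank K (wt σ f (em c)) := fun c => by rw [wt_em]
  simp_rw [h3]
  have key : ∀ c : Fin 4 → ZMod 2, finrank K (wt σ f (em c)) =
      if c = 0 then finrank K (wt σ f (fun _ => 0)) else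
        if (∃ i, em c = ch {i}) ∨ (∃ i, em c = fun k => ch {i} k + 1) then d1 σ f else d2 σ f := by
    intro c
    split_ifs with h4 h5
    · have : em c = fun _ => 0 := by
        rw [h4]
        decide
      rw [this]
    · rcases h5 with ⟨i, hi⟩ | ⟨i, hi⟩
      · rw [hi, finrank_one hf]
      · rw [hi, wt_add_one, finrank_one hf]
    · rcases em_cases c with h | h | h | ⟨i, j, hij, h⟩ | ⟨i, j, hij, h⟩
      · exfalso
        apply h4
        funext k
        rw [← em_castSucc c k, h]; rfl
      · exact absurd (Or.inl h) h5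
      · exact absurd (Or.inr h) h5
      · rw [h, finrank_two hf hij]
      · rw [h, wt_add_one, finrank_two hf hij]
  rw [Finset.sum_congr rfl fun c _ => key c, Finset.sum_ite, Finset.sum_ite, Finset.sum_const, Finset.sum_const,
    Finset.sum_const]
  have c1 : (Finset.univ.filter fun c : Fin 4 → ZMod 2 => c = 0).card = 1 := by decide
  have c2 : ((Finset.univ.filter fun c : Fin 4 → ZMod 2 => ¬ c = 0).filter fun c => (∃ i, em c = ch {i}) ∨
      (∃ i, em c = fun k => ch {i} k + 1)).card = 5 := by decide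
  have c3 : ((Finset.univ.filter fun c : Fin 4 → ZMod 2 => ¬ c = 0).filter fun c => ¬ ((∃ i, em c = ch {i}) ∨
      (∃ i, em c = fun k => ch {i} k + 1))).card = 10 := by decide
  rw [c1, c2, c3]
  simp only [smul_eq_mul, one_mul]
  ring

/-- weights: `none` is the trivial one, `some i` the coordinate `i` -/
def co (o : Option (Fin 5)) : Fin 5 → ZMod 2 := fun i => if o = some i then 1 else 0

theorem co_none : co none = fun _ => 0 := by
  funext i; rfl

theorem co_some (i : Fin 5) : co (some i) = ch {i} := by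
  funext j
  simp only [co, ch, Option.some.injEq, Finset.mem_singleton]
  split_ifs with h1 h2 h2
  · rfl
  · exact absurd h1.symm h2
  · exact absurd h2.symm h1
  · rfl

theorem co_inj : ∀ o o' : Option (Fin 5), (co o = co o' ∨ co o = fun i => co o' i + 1) → o = o' := by
  decide

/-- The joint weight spaces of a five-frame, independence. -/
theorem indep_co (h2 : (2 : K) ≠ 0) : iSupIndep fun o => wt σ f (co o) := by
  have h2' : ((2 : ℕ) : K) ≠ 0 := by exact_mod_cast h2
  have hζ : IsPrimitiveRoot (-1 : K) 2 := by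
    refine IsPrimitiveRoot.neg_one (ringChar K) ?_
    intro h
    apply h2
    have h3 := CharP.cast_eq_zero K (ringChar K)
    rw [h] at h3
    exact_mod_cast h3
  have hi := indep_W (K := K) (V := V) h2' hζ (f := fun k : Fin 4 => σ (f.e k.castSucc 4))
    (fun j k => by rw [← map_mul, ← map_mul, f.comm]) (fun k => by rw [sq, ← map_mul, f.sq, map_one])
  have h3 : ∀ o, ∃ c : Fin 4 → ZMod 2, em c = co o ∨ em c = fun i => co o i + 1 := by decide
  choose c hc using h3
  have h4 : Function.Injective c := by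
    intro o o' h
    have h5 := hc o
    have h6 := hc o'
    rw [h] at h5
    have h7 : co o = co o' ∨ co o = fun i => co o' i + 1 := by
      have e2 : ∀ x : ZMod 2, x + 1 + 1 = x := by decide
      rcases h5 with h5 | h5 <;> rcases h6 with h6 | h6
      · left; rw [← h5, h6]
      · right; rw [← h5, h6]
      · right
        funext i
        have := congrFun (h5.symm.trans h6) i
        have this : co o i + 1 = co o' i := this
        rw [← this, e2]
      · left
        funext i
        have := congrFun (h5.symm.trans h6) i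
        have this : co o i + 1 = co o' i + 1 := this
        exact add_right_cancel this
    exact co_inj o o' h7
  have h5 := hi.comp h4
  have h6 : ((W 2 (-1 : K) fun k : Fin 4 => σ (f.e k.castSucc 4)) ∘ c) = fun o => wt σ f (co o) := by
    funext o
    rw [Function.comp_apply, ← wt_em]
    rcases hc o with h | h
    · rw [h]
    · rw [h, wt_add_one]
  rwa [h6] at h5

/-- In dimension at most `9` the weights of a symmetric five-frame are `0` and the coordinates, with multiplicity
at most one. -/
theorem five_cases [IsAlgClosed K] (h2 : (2 : K) ≠ 0) (hf : f.Sym) (hV : finrank K V ≤ 9) :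
    d2 σ f = 0 ∧ d1 σ f ≤ 1 ∧ finrank K (wt σ f (co none)) + 5 * d1 σ f = finrank K V := by
  have h := sum_dims (σ := σ) h2 hf
  rw [co_none]
  omega

theorem iSup_co [IsAlgClosed K] (h2 : (2 : K) ≠ 0) (hf : f.Sym) (hV : finrank K V ≤ 9) :
    ⨆ o, wt σ f (co o) = ⊤ := by
  apply Submodule.eq_top_of_finrank_eq
  rw [← sum_eq_iSup (indep_co h2), Fintype.sum_option]
  have h3 : ∀ i : Fin 5, finrank K (wt σ f (co (some i))) = d1 σ f := fun i => by rw [co_some, finrank_one hf]
  rw [Finset.sum_congr rfl fun i _ => h3 i, Finset.sum_const, Finset.card_univ, Fintype.card_fin, smul_eq_mul]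
  exact (five_cases h2 hf hV).2.2

end Five

end Cfsg.Agent.H879.TL
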