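import Mathlib
import Cfsg.Agent.H879.TL.Base

/-!
# Spaces of dimension at most nine with a symmetric frame of five coordinates (helper879)
-/

set_option autoImplicit false
set_option linter.unusedSectionVars false

namespace Cfsg.Agent.H879.TL

open Module Equiv Equiv.Perm Cfsg.Agent.H637.JW

section Lin

variable {K : Type*} [Field K] {V : Type*} [AddCommGroup V] [Module K V] {ι : Type*} [Fintype ι]

theorem exists_sum {U : ι → Submodule K V} (h : ⨆ i, U i = ⊤) (v : V) :
    ∃ x : ι → V, (∀ i, x i ∈ U i) ∧ ∑ i, x i = v := by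
  have hv : v ∈ ⨆ i, U i := by rw [h]; trivial
  obtain ⟨x, hx, hs⟩ := (Submodule.mem_iSup_iff_exists_finsupp _ _).1 hv
  refine ⟨x, hx, ?_⟩
  rw [← hs, Finsupp.sum_fintype _ _ (fun _ => rfl)]

theorem zero_of_sum {U : ι → Submodule K V} (h : iSupIndep U) {x : ι → V} (hx : ∀ i, x i ∈ U i)
    (hs : ∑ i, x i = 0) (i : ι) : x i = 0 := by
  classical
  have h1 := (disjoint_iff.1 (h i))
  have h2 : x i ∈ U i ⊓ ⨆ j, ⨆ (_ : j ≠ i), U j := by
    refine ⟨hx i, ?_⟩
    have h3 : x i = - ∑ j ∈ Finset.univ.erase i, x j := by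
      rw [← Finset.add_sum_erase _ _ (Finset.mem_univ i)] at hs
      exact eq_neg_of_add_eq_zero_left hs
    rw [h3]
    refine neg_mem (sum_mem fun j hj => ?_)
    exact Submodule.mem_iSup_of_mem j (Submodule.mem_iSup_of_mem (Finset.ne_of_mem_erase hj) (hx j))
  rw [h1] at h2
  exact (Submodule.mem_bot K).1 h2

/-- eigenvectors of an operator that is scalar on the members of a decomposition -/
theorem comp_eq_zero {U : ι → Submodule K V} (h : iSupIndep U) {T : Module.End K V} {s : ι → K}
    (hT : ∀ i, ∀ v ∈ U i, T v = s i • v) {x : ι → V} (hx : ∀ i, x i ∈ U i) {μ : K}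
    (hv : T (∑ i, x i) = μ • ∑ i, x i) (i : ι) (hi : s i ≠ μ) : x i = 0 := by
  have h1 : ∑ i, (s i - μ) • x i = 0 := by
    simp only [sub_smul]
    rw [Finset.sum_sub_distrib, ← Finset.smul_sum, ← hv, map_sum, sub_eq_zero]
    exact (Finset.sum_congr rfl fun i _ => hT i _ (hx i)).symm
  have h2 := zero_of_sum h (fun i => (U i).smul_mem (s i - μ) (hx i)) h1 i
  exact (smul_eq_zero.1 h2).resolve_left (sub_ne_zero.2 hi)

theorem eigenspace_eq {U : ι → Submodule K V} (h : iSupIndep U) (ht : ⨆ i, U i = ⊤) {T : Module.End K V} {s : ι → K}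
    (hT : ∀ i, ∀ v ∈ U i, T v = s i • v) (μ : K) (S : Finset ι) (hS : ∀ i, i ∈ S ↔ s i = μ) :
    T.eigenspace μ = ⨆ i : S, U i := by
  classical
  apply le_antisymm
  · intro v hv
    obtain ⟨x, hx, rfl⟩ := exists_sum ht v
    rw [End.mem_eigenspace_iff] at hv
    have h1 := comp_eq_zero h hT hx hv
    refine sum_mem fun i _ => ?_
    by_cases hi : i ∈ S
    · exact Submodule.mem_iSup_of_mem (⟨i, hi⟩ : S) (hx i)
    · rw [h1 i (fun h0 => hi ((hS i).2 h0))]
      exact zero_mem _
  · refine iSup_le fun i v hv => ?_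
    rw [End.mem_eigenspace_iff, hT i v hv, (hS i).1 i.2]

theorem finrank_eigenspace [FiniteDimensional K V] {U : ι → Submodule K V} (h : iSupIndep U) (ht : ⨆ i, U i = ⊤)
    {T : Module.End K V} {s : ι → K} (hT : ∀ i, ∀ v ∈ U i, T v = s i • v) (μ : K) (S : Finset ι)
    (hS : ∀ i, i ∈ S ↔ s i = μ) : finrank K (T.eigenspace μ) = ∑ i ∈ S, finrank K (U i) := by
  have h1 : iSupIndep (fun i : S => U i) := h.comp Subtype.val_injective
  rw [eigenspace_eq h ht hT μ S hS, ← sum_eq_iSup h1, ← Finset.sum_coe_sort S (fun i => finrank K (U i))]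

end Lin

section Five

variable {G : Type*} [Group G] {K : Type*} [Field K] [IsAlgClosed K] {V : Type*} [AddCommGroup V] [Module K V]
  [FiniteDimensional K V] {σ : G →* Module.End K V} {f : Fr (Fin 5) G}

/-- The sign of `e i j` on the weight space `o`. -/
def sg (o : Option (Fin 5)) (i j : Fin 5) : ℤ := (-1) ^ (co o i + co o j).val

theorem act_e (o : Option (Fin 5)) (i j : Fin 5) {v : V} (hv : v ∈ wt σ f (co o)) :
    σ (f.e i j) v = ((sg o i j : ℤ) : K) • v := by
  rw [mem_wt.1 hv]
  simp [sg]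

theorem act_ee (o : Option (Fin 5)) (i j k l : Fin 5) {v : V} (hv : v ∈ wt σ f (co o)) :
    σ (f.e i j * f.e k l) v = (((sg o i j * sg o k l : ℤ)) : K) • v := by
  rw [mul_apply', act_e o k l hv, map_smul, act_e o i j hv, smul_smul, Int.cast_mul, mul_comm]

theorem sg_cases : ∀ o i j, sg o i j = 1 ∨ sg o i j = -1 := by decide

theorem sg_eq_neg : ∀ (o : Option (Fin 5)) (i j : Fin 5), i ≠ j → (o ∈ ({some i, some j} : Finset _) ↔ sg o i j = -1) := by
  decide

/-- the product of two disjoint sign changes -/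
theorem sg_four : ∀ (i j k l : Fin 5), i ≠ j → i ≠ k → i ≠ l → j ≠ k → j ≠ l → k ≠ l → ∀ o : Option (Fin 5),
    (o ∈ ({some i, some j, some k, some l} : Finset _) ↔ sg o i j * sg o k l = -1) := by
  decide

theorem sg_mul_cases : ∀ o i j k l, sg o i j * sg o k l = 1 ∨ sg o i j * sg o k l = -1 := by
  intro o i j k l
  rcases sg_cases o i j with h | h <;> rcases sg_cases o k l with h' | h' <;> rw [h, h'] <;> simp

omit [IsAlgClosed K] in
theorem cast_inj_of (h2 : (2 : K) ≠ 0) {a b : ℤ} (ha : a = 1 ∨ a = -1) (hb : b = 1 ∨ b = -1)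
    (h : (a : K) = (b : K)) : a = b := by
  have h3 : (1 : K) ≠ -1 := by
    intro h0
    apply h2
    linear_combination h0
  rcases ha with rfl | rfl <;> rcases hb with rfl | rfl
  · rfl
  · exact absurd (by simpa using h) h3
  · exact absurd (by simpa using h.symm) h3
  · rfl

variable (h2 : (2 : K) ≠ 0) (hf : f.Sym) (hV : finrank K V ≤ 9)
include h2 hf hV

theorem d1_le : d1 σ f ≤ 1 := (five_cases h2 hf hV).2.1

omit h2 hV [IsAlgClosed K] in
theorem sum_finrank (S : Finset (Option (Fin 5))) (hS : none ∉ S) :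
    ∑ o ∈ S, finrank K (wt σ f (co o)) = S.card * d1 σ f := by
  rw [Finset.sum_congr rfl (g := fun _ => d1 σ f), Finset.sum_const, smul_eq_mul]
  intro o ho
  rcases o with _ | i
  · exact absurd ho hS
  · rw [co_some, finrank_one hf]

/-- the `-1`-eigenspace of `e i j` -/
theorem finrank_neg {i j : Fin 5} (hij : i ≠ j) : finrank K ((σ (f.e i j)).eigenspace (-1)) = 2 * d1 σ f := by
  have h4 : ∀ o, o ∈ ({some i, some j} : Finset (Option (Fin 5))) ↔ ((sg o i j : ℤ) : K) = -1 := by
    intro o
    rw [sg_eq_neg o i j hij]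
    constructor
    · intro h
      rw [h]; simp
    · intro h
      exact cast_inj_of h2 (sg_cases o i j) (Or.inr rfl) (by rw [h]; simp)
  rw [finrank_eigenspace (indep_co h2) (iSup_co h2 hf hV) (fun o v hv => act_e o i j hv) (-1) _ h4,
    sum_finrank hf _ (by simp), Finset.card_pair (by simpa using hij)]

/-- fixed space of `e i j` -/
theorem finrank_fix {i j : Fin 5} (hij : i ≠ j) : finrank K (Fix σ (f.e i j)) + 2 * d1 σ f = finrank K V := by
  have h5 := (five_cases (σ := σ) h2 hf hV).2.2
  have h4 : ∀ o, o ∈ ({some i, some j} : Finset (Option (Fin 5)))ᶜ ↔ ((sg o i j : ℤ) : K) = 1 := by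
    intro o
    rw [Finset.mem_compl, sg_eq_neg o i j hij]
    constructor
    · intro h
      rw [(sg_cases o i j).resolve_right h]; simp
    · intro h h0
      have := cast_inj_of h2 (sg_cases o i j) (Or.inl rfl) (by rw [h]; simp)
      rw [this] at h0
      norm_num at h0
  have h6 := finrank_eigenspace (indep_co h2) (iSup_co h2 hf hV) (fun o v hv => act_e (σ := σ) (f := f) o i j hv) 1 _ h4
  have h7 : ({some i, some j} : Finset (Option (Fin 5)))ᶜ = insert none (({some i, some j} : Finset (Option (Fin 5)))ᶜ.erase none) := by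
    rw [Finset.insert_erase]
    simp
  rw [h7, Finset.sum_insert (Finset.notMem_erase _ _), sum_finrank hf _ (Finset.notMem_erase _ _),
    Finset.card_erase_of_mem (by simp), Finset.card_compl, Finset.card_pair (by simpa using hij)] at h6
  simp only [Fintype.card_option, Fintype.card_fin] at h6
  change finrank K ((σ (f.e i j)).eigenspace 1) + _ = _
  omega

omit h2 hf hV [IsAlgClosed K] [FiniteDimensional K V] in
theorem eigen_of_mem {S : Finset (Option (Fin 5))} (t : Option (Fin 5) → ℤ) (a : ℤ) (h2 : (2 : K) ≠ 0)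
    (ht : ∀ o, t o = 1 ∨ t o = -1) (ha : a = 1 ∨ a = -1) (hS : ∀ o, o ∈ S ↔ t o = a) (o : Option (Fin 5)) :
    o ∈ S ↔ ((t o : ℤ) : K) = (a : K) := by
  rw [hS]
  constructor
  · intro h; rw [h]
  · intro h; exact cast_inj_of h2 (ht o) ha h

/-- fixed space of a product of two disjoint sign changes -/
theorem fix_four_le {i j k l : Fin 5} (hij : i ≠ j) (hik : i ≠ k) (hil : i ≠ l) (hjk : j ≠ k) (hjl : j ≠ l)
    (hkl : k ≠ l) : Fix σ (f.e i j * f.e k l) ≤ Fix σ (f.e i j) := by
  intro v hv
  obtain ⟨x, hx, rfl⟩ := exists_sum (iSup_co (σ := σ) h2 hf hV) v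
  rw [mem_Fix] at hv ⊢
  have h1 := comp_eq_zero (indep_co h2) (T := σ (f.e i j * f.e k l)) (s := fun o => ((sg o i j * sg o k l : ℤ) : K))
    (fun o v hv => act_ee o i j k l hv) hx (μ := 1) (by rw [one_smul, hv])
  rw [map_sum]
  refine Finset.sum_congr rfl fun o _ => ?_
  by_cases h3 : sg o i j = 1
  · rw [act_e o i j (hx o), h3, Int.cast_one, one_smul]
  · have h4 : sg o i j = -1 := (sg_cases o i j).resolve_left h3
    have h5 : sg o i j * sg o k l = -1 := by
      rw [← sg_four i j k l hij hik hil hjk hjl hkl]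
      have := (sg_eq_neg o i j hij).2 h4
      rw [Finset.mem_insert, Finset.mem_singleton] at this
      rcases this with h | h <;> simp [h]
    have h6 := h1 o (by
      rw [h5]
      intro h0
      apply h2
      have h0 : ((-1 : ℤ) : K) = 1 := h0
      rw [Int.cast_neg, Int.cast_one] at h0
      linear_combination -h0)
    rw [h6, map_zero]

theorem finrank_fix_four {i j k l : Fin 5} (hij : i ≠ j) (hik : i ≠ k) (hil : i ≠ l) (hjk : j ≠ k) (hjl : j ≠ l)
    (hkl : k ≠ l) : finrank K (Fix σ (f.e i j * f.e k l)) + 4 * d1 σ f = finrank K V := by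
  have h5 := (five_cases (σ := σ) h2 hf hV).2.2
  have h4 : ∀ o, o ∈ ({some i, some j, some k, some l} : Finset (Option (Fin 5)))ᶜ ↔
      ((sg o i j * sg o k l : ℤ) : K) = ((1 : ℤ) : K) := by
    refine fun o => eigen_of_mem (fun o => sg o i j * sg o k l) 1 h2 (fun o => sg_mul_cases o i j k l)
      (Or.inl rfl) (fun o => ?_) o
    rw [Finset.mem_compl, sg_four i j k l hij hik hil hjk hjl hkl]
    have := sg_mul_cases o i j k l
    constructor
    · intro h; exact this.resolve_right h
    · intro h h0; rw [h] at h0; norm_num at h0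
  have h6 := finrank_eigenspace (indep_co h2) (iSup_co h2 hf hV)
    (fun o v hv => act_ee (σ := σ) (f := f) o i j k l hv) _ _ h4
  rw [Int.cast_one] at h6
  have hc : ({some i, some j, some k, some l} : Finset (Option (Fin 5))).card = 4 := by
    rw [Finset.card_insert_of_notMem, Finset.card_insert_of_notMem, Finset.card_pair] <;> simp [*]
  have h7 : ({some i, some j, some k, some l} : Finset (Option (Fin 5)))ᶜ =
      insert none (({some i, some j, some k, some l} : Finset (Option (Fin 5)))ᶜ.erase none) := by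
    rw [Finset.insert_erase]
    simp
  rw [h7, Finset.sum_insert (Finset.notMem_erase _ _), sum_finrank hf _ (Finset.notMem_erase _ _),
    Finset.card_erase_of_mem (by simp), Finset.card_compl, hc] at h6
  simp only [Fintype.card_option, Fintype.card_fin] at h6
  change finrank K ((σ (f.e i j * f.e k l)).eigenspace 1) + _ = _
  omega

theorem finrank_neg_four {i j k l : Fin 5} (hij : i ≠ j) (hik : i ≠ k) (hil : i ≠ l) (hjk : j ≠ k) (hjl : j ≠ l)
    (hkl : k ≠ l) : finrank K ((σ (f.e i j * f.e k l)).eigenspace (-1)) = 4 * d1 σ f := by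
  have h4 : ∀ o, o ∈ ({some i, some j, some k, some l} : Finset (Option (Fin 5))) ↔
      ((sg o i j * sg o k l : ℤ) : K) = ((-1 : ℤ) : K) :=
    fun o => eigen_of_mem (fun o => sg o i j * sg o k l) (-1) h2 (fun o => sg_mul_cases o i j k l)
      (Or.inr rfl) (fun o => sg_four i j k l hij hik hil hjk hjl hkl o) o
  have hc : ({some i, some j, some k, some l} : Finset (Option (Fin 5))).card = 4 := by
    rw [Finset.card_insert_of_notMem, Finset.card_insert_of_notMem, Finset.card_pair] <;> simp [*]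
  have h6 := finrank_eigenspace (indep_co h2) (iSup_co h2 hf hV)
    (fun o v hv => act_ee (σ := σ) (f := f) o i j k l hv) _ _ h4
  rw [sum_finrank hf _ (by simp), hc, Int.cast_neg, Int.cast_one] at h6
  exact h6

/-- the line of a coordinate -/
theorem wt_some_eq {i j k : Fin 5} (hij : i ≠ j) (hik : i ≠ k) (hjk : j ≠ k) :
    wt σ f (co (some i)) = (σ (f.e i j)).eigenspace (-1) ⊓ (σ (f.e i k)).eigenspace (-1) := by
  apply le_antisymm
  · intro v hv
    have h3 := act_e (some i) i j hv
    have h4 := act_e (some i) i k hv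
    have h5 : sg (some i) i j = -1 := (sg_eq_neg _ i j hij).1 (by simp)
    have h6 : sg (some i) i k = -1 := (sg_eq_neg _ i k hik).1 (by simp)
    rw [h5, Int.cast_neg, Int.cast_one] at h3
    rw [h6, Int.cast_neg, Int.cast_one] at h4
    exact ⟨End.mem_eigenspace_iff.2 h3, End.mem_eigenspace_iff.2 h4⟩
  · rintro v ⟨h3, h4⟩
    obtain ⟨x, hx, rfl⟩ := exists_sum (iSup_co (σ := σ) h2 hf hV) v
    rw [SetLike.mem_coe, End.mem_eigenspace_iff] at h3 h4
    have h5 := comp_eq_zero (indep_co h2) (T := σ (f.e i j)) (s := fun o => ((sg o i j : ℤ) : K))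
      (fun o v hv => act_e o i j hv) hx h3
    have h6 := comp_eq_zero (indep_co h2) (T := σ (f.e i k)) (s := fun o => ((sg o i k : ℤ) : K))
      (fun o v hv => act_e o i k hv) hx h4
    refine sum_mem fun o _ => ?_
    by_cases ho : o = some i
    · rw [ho]; exact hx _
    · have key : ∀ a b : Fin 5, a ≠ b → o ∉ ({some a, some b} : Finset (Option (Fin 5))) →
          ((sg o a b : ℤ) : K) ≠ -1 := by
        intro a b hab ho h0
        apply ho
        rw [sg_eq_neg o a b hab]
        exact cast_inj_of h2 (sg_cases o a b) (Or.inr rfl) (by rw [h0]; simp)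
      have : x o = 0 := by
        by_cases h7 : o = some j
        · refine h6 o (key i k hik ?_)
          rw [h7]
          simp [Ne.symm hij, hjk]
        · refine h5 o (key i j hij ?_)
          simp [ho, h7]
      rw [this]
      exact zero_mem _

omit hf in
theorem finrank_wt_some (hf : f.Sym) (i : Fin 5) : finrank K (wt σ f (co (some i))) = d1 σ f := by
  rw [co_some, finrank_one hf]

/-- If one sign change acts trivially then all do. -/
theorem trivial_of_d1 (h : d1 σ f = 0) (i j : Fin 5) : σ (f.e i j) = 1 := by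
  by_cases hij : i = j
  · rw [hij, f.self, map_one]
  · have h3 := finrank_fix (σ := σ) h2 hf hV hij
    rw [h, mul_zero, add_zero] at h3
    have h4 := Submodule.eq_top_of_finrank_eq h3
    ext v
    have h5 : v ∈ Fix σ (f.e i j) := by rw [h4]; trivial
    exact mem_Fix.1 h5

end Five

/-! ### Blocks -/

section Block

variable {G : Type*} [Group G] {K : Type*} [Field K] {V : Type*} [AddCommGroup V] [Module K V]
  {σ : G →* Module.End K V}

/-- `B` is generated by the `B`-conjugates of `e`. -/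
def NormGen (B : Subgroup G) (e : G) : Prop :=
  e ∈ B ∧ ∀ N : Subgroup G, N ≤ B → e ∈ N → (∀ b ∈ B, ∀ n ∈ N, b * n * b⁻¹ ∈ N) → N = B

theorem NormGen.of_normal {B : Subgroup G} {e : B} (h : ∀ N : Subgroup B, N.Normal → e ∈ N → N = ⊤) :
    NormGen B (e : G) := by
  refine ⟨e.2, fun N hNB heN hN => le_antisymm hNB ?_⟩
  have h1 := h (N.subgroupOf B) ⟨fun n hn b => by
    rw [Subgroup.mem_subgroupOf] at hn ⊢
    exact hN b b.2 n hn⟩ heN
  rw [Subgroup.subgroupOf_eq_top] at h1
  exact h1

/-- A block acts trivially on the fixed space of its central involution. -/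
theorem block {B : Subgroup G} {z e : G} (hz : ∀ b ∈ B, b * z = z * b) (he : NormGen B e)
    (hfix : Fix σ z ≤ Fix σ e) {b : G} (hb : b ∈ B) : Fix σ z ≤ Fix σ b := by
  have hinv : ∀ b ∈ B, ∀ v ∈ Fix σ z, σ b v ∈ Fix σ z := by
    intro b hb v hv
    rw [mem_Fix] at hv ⊢
    rw [← mul_apply', ← hz b hb, mul_apply', hv]
  let N : Subgroup G :=
    { carrier := {b | b ∈ B ∧ ∀ v ∈ Fix σ z, σ b v = v}
      one_mem' := ⟨one_mem _, fun v _ => by simp⟩
      mul_mem' := fun {a b} ha hb => ⟨mul_mem ha.1 hb.1, fun v hv => by rw [mul_apply', hb.2 v hv, ha.2 v hv]⟩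
      inv_mem' := fun {a} ha => ⟨inv_mem ha.1, fun v hv => by
        have h1 := ha.2 v hv
        have h2 : σ a⁻¹ (σ a v) = v := by
          rw [← mul_apply', inv_mul_cancel, map_one, Module.End.one_apply]
        rwa [h1] at h2⟩ }
  have hN : N = B := by
    refine he.2 N (fun b hb => hb.1) ⟨he.1, fun v hv => mem_Fix.1 (hfix hv)⟩ ?_
    intro b hb n hn
    refine ⟨mul_mem (mul_mem hb hn.1) (inv_mem hb), fun v hv => ?_⟩
    rw [mul_apply', mul_apply', hn.2 _ (hinv _ (inv_mem hb) v hv), ← mul_apply', mul_inv_cancel, map_one,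
      Module.End.one_apply]
  intro v hv
  have hb' : b ∈ N := by rw [hN]; exact hb
  exact mem_Fix.2 (hb'.2 v hv)

/-- Two blocks with big fixed spaces have a common fixed vector. -/
theorem exists_fixed_of_two [FiniteDimensional K V] {B B' : Subgroup G} (hB : B ⊔ B' = ⊤) {U U' : Submodule K V}
    (hU : ∀ b ∈ B, U ≤ Fix σ b) (hU' : ∀ b ∈ B', U' ≤ Fix σ b)
    (h : finrank K V < finrank K U + finrank K U') : ∃ v : V, v ≠ 0 ∧ ∀ g : G, σ g v = v := by
  have h1 := add_le_inf U U'
  obtain ⟨v, hv, hv0⟩ := exists_fix_of_pos (U := U ⊓ U') (by omega)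
  refine ⟨v, hv0, fun g => ?_⟩
  have h2 : B ⊔ B' ≤ stab σ v := sup_le (fun b hb => mem_Fix.1 (hU b hb hv.1)) (fun b hb => mem_Fix.1 (hU' b hb hv.2))
  rw [hB] at h2
  exact h2 (Subgroup.mem_top g)

end Block

end Cfsg.Agent.H879.TL
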