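import Mathlib
import Cfsg.Agent.H879.TL.Five

/-!
# Commuting quaternion groups (helper879)

`QB ι G` : commuting quaternion groups `⟨x i, y i⟩` with central involutions `z i`.
* `QB.two_pow_le` : a non-zero space on which `z i = -1` for all `i ∈ S` has dimension at least `2 ^ |S|`;
* `QB.twelve` : at least three of them, permuted by all permutations, the product of the `z i` trivial,
  some `z i` non-trivial: the dimension is at least `12`.
-/

set_option autoImplicit false
set_option linter.unusedSectionVars false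

namespace Cfsg.Agent.H879.TL

open Module Equiv Equiv.Perm Cfsg.Agent.H637.JW

/-- Commuting quaternion groups. -/
structure QB (ι : Type*) (G : Type*) [Group G] where
  x : ι → G
  y : ι → G
  z : ι → G
  xx : ∀ i, x i * x i = z i
  yy : ∀ i, y i * y i = z i
  xy : ∀ i, x i * y i = z i * (y i * x i)
  zz : ∀ i, z i * z i = 1
  cxx : ∀ i j, i ≠ j → x i * x j = x j * x i
  cxy : ∀ i j, i ≠ j → x i * y j = y j * x i
  cyy : ∀ i j, i ≠ j → y i * y j = y j * y i

namespace QB

variable {ι G H : Type*} [Group G] [Group H] (q : QB ι G)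

/-- image under a homomorphism -/
def map (φ : G →* H) : QB ι H where
  x i := φ (q.x i)
  y i := φ (q.y i)
  z i := φ (q.z i)
  xx i := by rw [← map_mul, q.xx]
  yy i := by rw [← map_mul, q.yy]
  xy i := by rw [← map_mul, ← map_mul, ← map_mul, q.xy]
  zz i := by rw [← map_mul, q.zz, map_one]
  cxx i j h := by rw [← map_mul, ← map_mul, q.cxx i j h]
  cxy i j h := by rw [← map_mul, ← map_mul, q.cxy i j h]
  cyy i j h := by rw [← map_mul, ← map_mul, q.cyy i j h]

theorem z_comm_x (i j : ι) : q.z i * q.x j = q.x j * q.z i := by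
  by_cases h : i = j
  · subst h
    rw [← q.xx, mul_assoc]
  · rw [← q.xx, mul_assoc, q.cxx i j h, ← mul_assoc, q.cxx i j h, mul_assoc]

theorem z_comm_y (i j : ι) : q.z i * q.y j = q.y j * q.z i := by
  by_cases h : i = j
  · subst h
    rw [← q.yy, mul_assoc]
  · rw [← q.xx, mul_assoc, q.cxy i j h, ← mul_assoc, q.cxy i j h, mul_assoc]

theorem z_comm_z (i j : ι) : q.z i * q.z j = q.z j * q.z i := by
  rw [← q.xx j, ← mul_assoc, q.z_comm_x, mul_assoc, q.z_comm_x, ← mul_assoc]

variable {K : Type*} [Field K] [IsAlgClosed K] {V : Type*} [AddCommGroup V] [Module K V] [FiniteDimensional K V]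
  {σ : G →* Module.End K V}

theorem two_pow_le [DecidableEq ι] (h2 : (2 : K) ≠ 0) (S : Finset ι) : ∀ (U : Submodule K V), U ≠ ⊥ →
    (∀ i ∈ S, ∀ v ∈ U, σ (q.x i) v ∈ U) → (∀ i ∈ S, ∀ v ∈ U, σ (q.y i) v ∈ U) →
    (∀ i ∈ S, ∀ v ∈ U, σ (q.z i) v = -v) → 2 ^ S.card ≤ finrank K U := by
  obtain ⟨l, hl⟩ : ∃ l : K, l * l = -1 := by
    obtain ⟨l, hl⟩ := IsAlgClosed.exists_pow_nat_eq (-1 : K) (n := 2) (by norm_num)
    exact ⟨l, by rw [← hl, sq]⟩
  have hl0 : l ≠ 0 := by
    rintro rfl
    rw [mul_zero] at hl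
    have : (1 : K) = 0 := by
      rw [← neg_eq_zero, ← hl]
    exact one_ne_zero this
  induction S using Finset.induction_on with
  | empty =>
    intro U hU _ _ _
    obtain ⟨v, hv, hv0⟩ := Submodule.exists_mem_ne_zero_of_ne_bot hU
    rw [Finset.card_empty, pow_zero]
    have : Nontrivial U := ⟨⟨v, hv⟩, 0, fun h => hv0 (congrArg Subtype.val h)⟩
    exact Module.finrank_pos
  | insert a S ha ih =>
    intro U hU hx hy hz
    have hxa := hx a (Finset.mem_insert_self a S)
    have hya := hy a (Finset.mem_insert_self a S)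
    have hza := hz a (Finset.mem_insert_self a S)
    have hxx : ∀ v ∈ U, σ (q.x a) (σ (q.x a) v) = -v := by
      intro v hv
      rw [← mul_apply', q.xx, hza v hv]
    have hxy : ∀ v ∈ U, σ (q.x a) (σ (q.y a) v) = - σ (q.y a) (σ (q.x a) v) := by
      intro v hv
      rw [← mul_apply', q.xy, mul_apply', mul_apply', hza _ (hya _ (hxa v hv))]
    let E : K → Submodule K V := fun m => U ⊓ (σ (q.x a)).eigenspace m
    have hE : ∀ m v, v ∈ E m ↔ v ∈ U ∧ σ (q.x a) v = m • v := fun m v => by
      rw [Submodule.mem_inf, End.mem_eigenspace_iff]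
    have hyE : ∀ m v, v ∈ E m → σ (q.y a) v ∈ E (-m) := by
      intro m v hv
      rw [hE] at hv ⊢
      refine ⟨hya v hv.1, ?_⟩
      rw [hxy v hv.1, hv.2, map_smul, neg_smul]
    have hne : E l ≠ ⊥ := by
      obtain ⟨v, hv, hv0⟩ := Submodule.exists_mem_ne_zero_of_ne_bot hU
      by_cases hw : v - l • σ (q.x a) v = 0
      · have h1 : v ∈ E (-l) := by
          rw [hE]
          refine ⟨hv, ?_⟩
          have h2 : v = l • σ (q.x a) v := sub_eq_zero.1 hw
          have h3 : l • v = (l * l) • σ (q.x a) v := by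
            conv_lhs => rw [h2]
            rw [smul_smul]
          rw [hl, neg_smul, one_smul] at h3
          rw [neg_smul, h3, neg_neg]
        have h2 := hyE _ _ h1
        rw [neg_neg] at h2
        exact Submodule.ne_bot_iff _ |>.2 ⟨_, h2, fun h0 => hv0 (injective (σ := σ) (q.y a) (by rw [h0, map_zero]))⟩
      · refine Submodule.ne_bot_iff _ |>.2 ⟨_, ?_, hw⟩
        rw [hE]
        refine ⟨U.sub_mem hv (U.smul_mem _ (hxa v hv)), ?_⟩
        rw [map_sub, map_smul, hxx v hv, smul_neg, smul_sub, smul_smul, hl, neg_smul, one_smul]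
        abel
    have h5 : finrank K (E l) ≤ finrank K (E (-l)) := finrank_le_of_map (σ := σ) (q.y a) (hyE l)
    have h6 : Disjoint (E l) (E (-l)) := by
      rw [Submodule.disjoint_def]
      intro v h1 h3
      rw [hE] at h1 h3
      have h4 : (2 * l) • v = 0 := by
        have := h1.2.symm.trans h3.2
        rw [two_mul, add_smul]
        nth_rw 1 [this]
        rw [neg_smul, neg_add_cancel]
      exact (smul_eq_zero.1 h4).resolve_left (mul_ne_zero h2 hl0)
    have h7 : finrank K (E l) + finrank K (E (-l)) ≤ finrank K U := by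
      have h8 := Submodule.finrank_sup_add_finrank_inf_eq (E l) (E (-l))
      rw [disjoint_iff.1 h6, finrank_bot, add_zero] at h8
      rw [← h8]
      exact Submodule.finrank_mono (sup_le inf_le_left inf_le_left)
    have h8 : 2 ^ S.card ≤ finrank K (E l) := by
      refine ih (E l) hne ?_ ?_ ?_
      · intro i hi v hv
        rw [hE] at hv ⊢
        refine ⟨hx i (Finset.mem_insert_of_mem hi) v hv.1, ?_⟩
        have : a ≠ i := fun h => ha (h ▸ hi)
        rw [← mul_apply', q.cxx a i this, mul_apply', hv.2, map_smul]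
      · intro i hi v hv
        rw [hE] at hv ⊢
        refine ⟨hy i (Finset.mem_insert_of_mem hi) v hv.1, ?_⟩
        have : a ≠ i := fun h => ha (h ▸ hi)
        rw [← mul_apply', q.cxy a i this, mul_apply', hv.2, map_smul]
      · intro i hi v hv
        rw [hE] at hv
        exact hz i (Finset.mem_insert_of_mem hi) v hv.1
    rw [Finset.card_insert_of_notMem ha, pow_succ]
    omega

/-- dimension of a weight space of the central involutions -/
theorem weight_ge [Fintype ι] [DecidableEq ι] (h2 : (2 : K) ≠ 0) (c : ι → ZMod 2)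
    (hc : W 2 (-1 : K) (fun i => σ (q.z i)) c ≠ ⊥) :
    2 ^ (Finset.univ.filter fun i => c i = 1).card ≤ finrank K (W 2 (-1 : K) (fun i => σ (q.z i)) c) := by
  refine q.two_pow_le (σ := σ) h2 _ _ hc ?_ ?_ ?_
  · intro i _ v hv
    rw [mem_W] at hv ⊢
    intro k
    rw [← mul_apply', q.z_comm_x, mul_apply', hv, map_smul]
  · intro i _ v hv
    rw [mem_W] at hv ⊢
    intro k
    rw [← mul_apply', q.z_comm_y, mul_apply', hv, map_smul]
  · intro i hi v hv
    rw [mem_W] at hv
    rw [hv, (Finset.mem_filter.1 hi).2]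
    simp [ZMod.val_one]

theorem prim_neg_one (h2 : (2 : K) ≠ 0) : IsPrimitiveRoot (-1 : K) 2 := by
  refine IsPrimitiveRoot.neg_one (ringChar K) ?_
  intro h
  apply h2
  have h3 := CharP.cast_eq_zero K (ringChar K)
  rw [h] at h3
  exact_mod_cast h3

/-- At least three commuting quaternion groups. -/
theorem twelve [Fintype ι] [DecidableEq ι] (h2 : (2 : K) ≠ 0) (h3 : 3 ≤ Fintype.card ι)
    (hsym : ∀ π : Perm ι, ∃ s : G, ∀ i, s * q.z i * s⁻¹ = q.z (π i))
    (heven : ∀ (s : ι → K) (v : V), (∀ i, σ (q.z i) v = s i • v) → (∏ i, s i) • v = v)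
    {i₀ : ι} (hne : σ (q.z i₀) ≠ 1) : 12 ≤ finrank K V := by
  have h2' : ((2 : ℕ) : K) ≠ 0 := by exact_mod_cast h2
  have hζ := prim_neg_one h2
  have hc : ∀ j k, σ (q.z j) * σ (q.z k) = σ (q.z k) * σ (q.z j) := fun j k => by
    rw [← map_mul, ← map_mul, q.z_comm_z]
  have hf : ∀ k, σ (q.z k) ^ 2 = 1 := fun k => by rw [sq, ← map_mul, q.zz, map_one]
  have hind := indep_W (K := K) (V := V) h2' hζ hc hf
  have htop := iSup_W (K := K) (V := V) h2' hζ hc hf
  -- a weight with `c i₀ = 1`
  obtain ⟨c, hc0, hcW⟩ : ∃ c : ι → ZMod 2, c i₀ = 1 ∧ W 2 (-1 : K) (fun i => σ (q.z i)) c ≠ ⊥ := by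
    by_contra hno
    push Not at hno
    apply hne
    have h5 : ∀ c : ι → ZMod 2, W 2 (-1 : K) (fun i => σ (q.z i)) c ≤ Fix σ (q.z i₀) := by
      intro c v hv
      have e2 : ∀ a : ZMod 2, a = 0 ∨ a = 1 := by decide
      rcases e2 (c i₀) with h | h
      · rw [mem_W] at hv
        rw [mem_Fix, hv i₀, h]
        simp
      · rw [hno c h] at hv
        rw [(Submodule.mem_bot K).1 hv]
        exact zero_mem _
    ext v
    have h6 : v ∈ Fix σ (q.z i₀) := by
      have h7 : (⊤ : Submodule K V) ≤ Fix σ (q.z i₀) := by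
        rw [← htop]
        exact iSup_le h5
      exact h7 trivial
    exact mem_Fix.1 h6
  -- permuting weights
  have hperm : ∀ (c : ι → ZMod 2) (π : Perm ι), W 2 (-1 : K) (fun i => σ (q.z i)) c ≠ ⊥ →
      W 2 (-1 : K) (fun i => σ (q.z i)) (fun i => c (π i)) ≠ ⊥ := by
    intro c π hW
    obtain ⟨v, hv, hv0⟩ := Submodule.exists_mem_ne_zero_of_ne_bot hW
    obtain ⟨s, hs⟩ := hsym π.symm
    refine Submodule.ne_bot_iff _ |>.2 ⟨σ s v, ?_, fun h0 => hv0 (injective (σ := σ) s (by rw [h0, map_zero]))⟩
    rw [mem_W] at hv ⊢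
    intro k
    have h1 : q.z k = s * q.z (π k) * s⁻¹ := by rw [hs, Equiv.symm_apply_apply]
    rw [h1, ← mul_apply', inv_mul_cancel_right, mul_apply', hv, map_smul]
  -- the number of ones is even
  have hev : Even (Finset.univ.filter fun i => c i = 1).card := by
    obtain ⟨v, hv, hv0⟩ := Submodule.exists_mem_ne_zero_of_ne_bot hcW
    rw [mem_W] at hv
    have h4 := heven _ v hv
    have h5 : (∏ i, (-1 : K) ^ (c i).val) = (-1) ^ (Finset.univ.filter fun i => c i = 1).card := by
      rw [← Finset.prod_const, Finset.prod_filter]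
      refine Finset.prod_congr rfl fun i _ => ?_
      have e2 : ∀ a : ZMod 2, a = 0 ∨ a = 1 := by decide
      rcases e2 (c i) with h | h
      · rw [h]; simp
      · rw [h]; simp [ZMod.val_one]
    rw [h5] at h4
    by_contra hodd
    rw [Nat.not_even_iff_odd] at hodd
    rw [hodd.neg_one_pow, neg_smul, one_smul] at h4
    apply hv0
    have h6 : (2 : K) • v = 0 := by
      rw [two_smul]
      nth_rw 1 [← h4]
      exact neg_add_cancel v
    exact (smul_eq_zero.1 h6).resolve_left h2
  have hmem : i₀ ∈ Finset.univ.filter fun i => c i = 1 := Finset.mem_filter.2 ⟨Finset.mem_univ _, hc0⟩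
  have hpos := Finset.card_pos.2 ⟨i₀, hmem⟩
  have htwo : 2 ≤ (Finset.univ.filter fun i => c i = 1).card := by
    rcases hev with ⟨r, hr⟩
    omega
  by_cases hall : ∀ k, c k = 1
  · have h4 : (Finset.univ.filter fun i => c i = 1) = Finset.univ := by
      ext i
      simp [hall i]
    rw [h4, Finset.card_univ] at hev
    have h5 : 4 ≤ Fintype.card ι := by
      rcases hev with ⟨r, hr⟩
      omega
    have h6 := q.weight_ge h2 c hcW
    rw [h4, Finset.card_univ] at h6
    have h7 : 2 ^ 4 ≤ 2 ^ Fintype.card ι := Nat.pow_le_pow_right (by norm_num) h5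
    have h8 := Submodule.finrank_le (W 2 (-1 : K) (fun i => σ (q.z i)) c)
    omega
  · push Not at hall
    obtain ⟨k, hk⟩ := hall
    have hk0 : c k = 0 := by
      have e2 : ∀ a : ZMod 2, a = 0 ∨ a = 1 := by decide
      exact (e2 (c k)).resolve_right hk
    obtain ⟨i, hi, j, hj, hij⟩ := Finset.one_lt_card.1 (lt_of_lt_of_le one_lt_two htwo)
    have hi1 := (Finset.mem_filter.1 hi).2
    have hj1 := (Finset.mem_filter.1 hj).2
    have hik : i ≠ k := fun h => hk (h ▸ hi1)
    have hjk : j ≠ k := fun h => hk (h ▸ hj1)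
    let e : Fin 3 → (ι → ZMod 2) := ![c, fun l => c (swap j k l), fun l => c (swap i k l)]
    have e1 : ∀ t, W 2 (-1 : K) (fun i => σ (q.z i)) (e t) ≠ ⊥ := by
      intro t
      fin_cases t
      · exact hcW
      · exact hperm c (swap j k) hcW
      · exact hperm c (swap i k) hcW
    have hv1 : ∀ t, 2 ≤ (Finset.univ.filter fun l => e t l = 1).card := by
      intro t
      have key : ∀ a b : ι, a ≠ b → e t a = 1 → e t b = 1 → 2 ≤ (Finset.univ.filter fun l => e t l = 1).card := by
        intro a b hab h h'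
        exact Finset.one_lt_card.2 ⟨a, Finset.mem_filter.2 ⟨Finset.mem_univ _, h⟩, b,
          Finset.mem_filter.2 ⟨Finset.mem_univ _, h'⟩, hab⟩
      fin_cases t
      · exact htwo
      · refine key i k hik ?_ ?_
        · change c (swap j k i) = 1
          rw [swap_apply_of_ne_of_ne hij hik, hi1]
        · change c (swap j k k) = 1
          rw [swap_apply_right, hj1]
      · refine key j k hjk ?_ ?_
        · change c (swap i k j) = 1
          rw [swap_apply_of_ne_of_ne (Ne.symm hij) hjk, hj1]
        · change c (swap i k k) = 1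
          rw [swap_apply_right, hi1]
    have h01 : (0 : ZMod 2) ≠ 1 := by decide
    have hinj : Function.Injective e := by
      have a0 : e 0 k = 0 := hk0
      have a0j : e 0 j = 1 := hj1
      have a0i : e 0 i = 1 := hi1
      have a1 : e 1 j = 0 := by
        change c (swap j k j) = 0
        rw [swap_apply_left, hk0]
      have a2 : e 2 i = 0 := by
        change c (swap i k i) = 0
        rw [swap_apply_left, hk0]
      have a2j : e 2 j = 1 := by
        change c (swap i k j) = 1
        rw [swap_apply_of_ne_of_ne (Ne.symm hij) hjk, hj1]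
      have n01 : e 0 ≠ e 1 := fun h => h01 (by rw [← a1, ← h, a0j])
      have n02 : e 0 ≠ e 2 := fun h => h01 (by rw [← a2, ← h, a0i])
      have n12 : e 1 ≠ e 2 := fun h => h01 (by rw [← a1, h, a2j])
      intro s t hst
      fin_cases s <;> fin_cases t
      · rfl
      · exact absurd hst n01
      · exact absurd hst n02
      · exact absurd hst.symm n01
      · rfl
      · exact absurd hst n12
      · exact absurd hst.symm n02
      · exact absurd hst.symm n12
      · rfl
    have h9 := sum_le_of_inj hind e hinj ⊤ (fun _ => le_top)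
    rw [finrank_top, Fin.sum_univ_three] at h9
    have h10 : ∀ t, 4 ≤ finrank K (W 2 (-1 : K) (fun i => σ (q.z i)) (e t)) := by
      intro t
      refine le_trans ?_ (q.weight_ge h2 (e t) (e1 t))
      calc 4 = 2 ^ 2 := by norm_num
        _ ≤ _ := Nat.pow_le_pow_right (by norm_num) (hv1 t)
    have := h10 0
    have := h10 1
    have := h10 2
    omega

end QB

end Cfsg.Agent.H879.TL
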