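import Mathlib
import Cfsg.Prelude.Def_Classical
import Cfsg.Agent.H879.TL.QB

/-!
# Blocks in the symplectic group (helper879)

`bl : (Fin m → SL₂(F)) →* Sp_{2m}(F)`, permutations of the blocks, commuting quaternion groups `qb`, and:
**`psp_twelve`** : `m ≥ 3`, `F` finite of odd order, `K` algebraically closed of characteristic `≠ 2`: every
representation of `PSp m F` of dimension less than `12` over `K` is trivial.
-/

set_option autoImplicit false
set_option linter.unusedSectionVars false

namespace Cfsg.Agent.H879.TL.Sp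

open Module Equiv Equiv.Perm Matrix Cfsg.Agent.H637.JW

variable {m : ℕ} {F : Type*} [Field F]

/-- block matrices -/
def blM (A : Fin m → Matrix (Fin 2) (Fin 2) F) : Matrix (Fin m ⊕ Fin m) (Fin m ⊕ Fin m) F :=
  fromBlocks (diagonal fun i => A i 0 0) (diagonal fun i => A i 0 1) (diagonal fun i => A i 1 0)
    (diagonal fun i => A i 1 1)

theorem blM_mul (A B : Fin m → Matrix (Fin 2) (Fin 2) F) : blM (fun i => A i * B i) = blM A * blM B := by
  unfold blM
  rw [fromBlocks_multiply]
  simp only [diagonal_mul_diagonal, diagonal_add]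
  congr 1 <;> (congr 1; funext i; rw [Matrix.mul_apply, Fin.sum_univ_two])

theorem blM_one : blM (fun _ : Fin m => (1 : Matrix (Fin 2) (Fin 2) F)) = 1 := by
  unfold blM
  simp

theorem blM_mem (A : Fin m → SpecialLinearGroup (Fin 2) F) :
    blM (fun i => (A i : Matrix (Fin 2) (Fin 2) F)) ∈ symplecticGroup (Fin m) F := by
  rw [SymplecticGroup.mem_iff]
  have hd : ∀ i, (A i).1 0 0 * (A i).1 1 1 - (A i).1 0 1 * (A i).1 1 0 = 1 := by
    intro i
    rw [← Matrix.det_fin_two, (A i).2]
  unfold blM J
  rw [fromBlocks_transpose, fromBlocks_multiply, fromBlocks_multiply]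
  simp only [diagonal_transpose, mul_zero, zero_add, mul_one, mul_neg, add_zero, diagonal_neg, diagonal_mul_diagonal,
    diagonal_add]
  have e0 : (0 : Matrix (Fin m) (Fin m) F) = diagonal fun _ => 0 := by simp
  have e1 : (1 : Matrix (Fin m) (Fin m) F) = diagonal fun _ => 1 := by simp
  rw [e0, e1, diagonal_neg]
  congr 1
  · congr 1; funext i; ring
  · congr 1; funext i; linear_combination -(hd i)
  · congr 1; funext i; linear_combination (hd i)
  · congr 1; funext i; ring

/-- the block embedding -/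
def bl : (Fin m → SpecialLinearGroup (Fin 2) F) →* symplecticGroup (Fin m) F where
  toFun A := ⟨blM (fun i => (A i : Matrix (Fin 2) (Fin 2) F)), blM_mem A⟩
  map_one' := Subtype.ext blM_one
  map_mul' _ _ := Subtype.ext (blM_mul _ _)

theorem bl_coe (A : Fin m → SpecialLinearGroup (Fin 2) F) : (bl A).1 = blM (fun i => (A i : Matrix (Fin 2) (Fin 2) F)) :=
  rfl

theorem bl_injective : Function.Injective (bl (m := m) (F := F)) := by
  intro A B h
  have h1 : blM (fun i => (A i).1) = blM (fun i => (B i).1) := congrArg Subtype.val h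
  funext i
  apply Subtype.ext
  ext a b
  have e : ∀ (C : Fin m → Matrix (Fin 2) (Fin 2) F), (blM C (Sum.inl i) (Sum.inl i) = C i 0 0) ∧
      (blM C (Sum.inl i) (Sum.inr i) = C i 0 1) ∧ (blM C (Sum.inr i) (Sum.inl i) = C i 1 0) ∧
      (blM C (Sum.inr i) (Sum.inr i) = C i 1 1) := by
    intro C
    simp [blM]
  fin_cases a <;> fin_cases b
  · exact (e _).1.symm.trans ((congrFun (congrFun h1 _) _).trans (e _).1)
  · exact (e _).2.1.symm.trans ((congrFun (congrFun h1 _) _).trans (e _).2.1)
  · exact (e _).2.2.1.symm.trans ((congrFun (congrFun h1 _) _).trans (e _).2.2.1)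
  · exact (e _).2.2.2.symm.trans ((congrFun (congrFun h1 _) _).trans (e _).2.2.2)

/-- permutation of the blocks -/
def pmM (π : Perm (Fin m)) : Matrix (Fin m ⊕ Fin m) (Fin m ⊕ Fin m) F :=
  fromBlocks ((1 : Matrix (Fin m) (Fin m) F).submatrix π.symm id) 0 0
    ((1 : Matrix (Fin m) (Fin m) F).submatrix π.symm id)

theorem pm_sub (π : Perm (Fin m)) :
    ((1 : Matrix (Fin m) (Fin m) F).submatrix π.symm id) * ((1 : Matrix (Fin m) (Fin m) F).submatrix π.symm id)ᵀ = 1 := by
  ext i j
  rw [Matrix.mul_apply, Finset.sum_eq_single (π.symm i)]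
  · simp only [submatrix_apply, transpose_apply, Matrix.one_apply]
    simp [eq_comm]
  · intro b _ hb
    simp [Matrix.one_apply, Ne.symm hb]
  · simp

theorem pm_mem (π : Perm (Fin m)) : pmM (F := F) π ∈ symplecticGroup (Fin m) F := by
  rw [SymplecticGroup.mem_iff]
  unfold pmM J
  rw [fromBlocks_transpose, fromBlocks_multiply, fromBlocks_multiply]
  simp only [transpose_zero, mul_zero, zero_mul, zero_add, mul_one, mul_neg, add_zero, neg_mul, pm_sub, neg_zero]

/-- permutation of the blocks, as an element of the group -/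
def pm (π : Perm (Fin m)) : symplecticGroup (Fin m) F := ⟨pmM π, pm_mem π⟩

theorem pm_bl (π : Perm (Fin m)) (A : Fin m → SpecialLinearGroup (Fin 2) F) :
    pm π * bl A = bl (fun i => A (π.symm i)) * pm π := by
  apply Subtype.ext
  change pmM π * blM _ = blM _ * pmM π
  unfold pmM blM
  rw [fromBlocks_multiply, fromBlocks_multiply]
  simp only [zero_mul, mul_zero, add_zero, zero_add]
  congr 1 <;>
  · ext i j
    rw [Matrix.mul_diagonal, Matrix.diagonal_mul]
    simp only [submatrix_apply, id, Matrix.one_apply]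
    by_cases h : π.symm i = j
    · rw [h, if_pos rfl, one_mul, mul_one]
    · rw [if_neg h, zero_mul, mul_zero]

theorem pm_conj (π : Perm (Fin m)) (A : Fin m → SpecialLinearGroup (Fin 2) F) :
    pm π * bl A * (pm π)⁻¹ = bl (fun i => A (π.symm i)) := by
  rw [pm_bl, mul_inv_cancel_right]

/-! ### Quaternion groups -/

section Quat

/-- `[0, 1; -1, 0]` -/
def qX : SpecialLinearGroup (Fin 2) F := ⟨!![0, 1; -1, 0], by simp [Matrix.det_fin_two]⟩

/-- `[a, b; b, -a]`, `a² + b² = -1` -/
def qY (a b : F) (h : a ^ 2 + b ^ 2 = -1) : SpecialLinearGroup (Fin 2) F :=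
  ⟨!![a, b; b, -a], by simp only [Matrix.det_fin_two_of]; linear_combination -h⟩

/-- `-1` -/
def nI : SpecialLinearGroup (Fin 2) F := ⟨!![-1, 0; 0, -1], by simp [Matrix.det_fin_two]⟩

theorem qX_sq : qX * qX = (nI : SpecialLinearGroup (Fin 2) F) := by
  apply Subtype.ext
  change !![(0 : F), 1; -1, 0] * !![(0 : F), 1; -1, 0] = !![-1, 0; 0, -1]
  simp

theorem qY_sq {a b : F} (h : a ^ 2 + b ^ 2 = -1) : qY a b h * qY a b h = nI := by
  apply Subtype.ext
  change !![a, b; b, -a] * !![a, b; b, -a] = !![-1, 0; 0, -1]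
  rw [Matrix.mul_fin_two]
  congr 1
  ext i j
  fin_cases i <;> fin_cases j
  · change a * a + b * b = -1; linear_combination h
  · change a * b + b * -a = 0; ring
  · change b * a + -a * b = 0; ring
  · change b * b + -a * -a = -1; linear_combination h

theorem qXY {a b : F} (h : a ^ 2 + b ^ 2 = -1) : qX * qY a b h = nI * (qY a b h * qX) := by
  apply Subtype.ext
  change !![(0 : F), 1; -1, 0] * !![a, b; b, -a] = !![-1, 0; 0, -1] * (!![a, b; b, -a] * !![(0 : F), 1; -1, 0])
  rw [Matrix.mul_fin_two, Matrix.mul_fin_two, Matrix.mul_fin_two]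
  ext i j
  fin_cases i <;> fin_cases j <;> simp

theorem nI_sq : nI * nI = (1 : SpecialLinearGroup (Fin 2) F) := by
  apply Subtype.ext
  change !![(-1 : F), 0; 0, -1] * !![-1, 0; 0, -1] = 1
  rw [Matrix.mul_fin_two]
  ext i j
  fin_cases i <;> fin_cases j <;> simp

theorem nI_ne (h2 : (2 : F) ≠ 0) : (nI : SpecialLinearGroup (Fin 2) F) ≠ 1 := by
  intro h
  have h1 : (-1 : F) = 1 := congrFun (congrFun (congrArg Subtype.val h) 0) 0
  apply h2
  linear_combination -h1

/-- commuting quaternion groups in `Sp_{2m}(F)` -/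
def qb (m : ℕ) {a b : F} (h : a ^ 2 + b ^ 2 = -1) : QB (Fin m) (symplecticGroup (Fin m) F) where
  x i := bl (Pi.mulSingle i qX)
  y i := bl (Pi.mulSingle i (qY a b h))
  z i := bl (Pi.mulSingle i nI)
  xx i := by rw [← map_mul, ← Pi.mulSingle_mul, qX_sq]
  yy i := by rw [← map_mul, ← Pi.mulSingle_mul, qY_sq]
  xy i := by rw [← map_mul, ← map_mul, ← map_mul, ← Pi.mulSingle_mul, ← Pi.mulSingle_mul, ← Pi.mulSingle_mul, qXY]
  zz i := by rw [← map_mul, ← Pi.mulSingle_mul, nI_sq, Pi.mulSingle_one, map_one]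
  cxx i j hij := by rw [← map_mul, ← map_mul, (Pi.mulSingle_commute hij _ _).eq]
  cxy i j hij := by rw [← map_mul, ← map_mul, (Pi.mulSingle_commute hij _ _).eq]
  cyy i j hij := by rw [← map_mul, ← map_mul, (Pi.mulSingle_commute hij _ _).eq]

theorem single_perm (π : Perm (Fin m)) (g : SpecialLinearGroup (Fin 2) F) (i : Fin m) :
    (fun j => (Pi.mulSingle i g : Fin m → SpecialLinearGroup (Fin 2) F) (π.symm j)) = Pi.mulSingle (π i) g := by
  funext j
  by_cases h : j = π i
  · subst h
    rw [Equiv.symm_apply_apply, Pi.mulSingle_eq_same, Pi.mulSingle_eq_same]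
  · have h' : π.symm j ≠ i := by
      rintro rfl
      exact h (Equiv.apply_symm_apply _ _).symm
    rw [Pi.mulSingle_eq_of_ne h, Pi.mulSingle_eq_of_ne h']

theorem qb_sym {a b : F} (h : a ^ 2 + b ^ 2 = -1) (π : Perm (Fin m)) (i : Fin m) :
    pm π * (qb m h).z i * (pm π)⁻¹ = (qb m h).z (π i) := by
  change pm π * bl (Pi.mulSingle i nI) * (pm π)⁻¹ = bl (Pi.mulSingle (π i) nI)
  rw [pm_conj, single_perm]

/-- `-1` -/
def negOne (m : ℕ) (F : Type*) [Field F] : symplecticGroup (Fin m) F := bl (fun _ => nI)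

theorem negOne_coe : (negOne m F).1 = -1 := by
  change blM (fun _ : Fin m => !![(-1 : F), 0; 0, -1]) = -1
  have e1 : (diagonal fun _ : Fin m => (-1 : F)) = -1 := by
    ext i j
    by_cases hij : i = j
    · subst hij; simp
    · rw [diagonal_apply_ne _ hij, Matrix.neg_apply, Matrix.one_apply_ne hij, neg_zero]
  have e0 : (diagonal fun _ : Fin m => (0 : F)) = 0 := by simp
  change fromBlocks (diagonal fun _ : Fin m => (-1 : F)) (diagonal fun _ : Fin m => (0 : F))
    (diagonal fun _ : Fin m => (0 : F)) (diagonal fun _ : Fin m => (-1 : F)) = -1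
  rw [e1, e0, ← fromBlocks_one, fromBlocks_neg, neg_zero]

theorem negOne_mem_center : negOne m F ∈ Subgroup.center (symplecticGroup (Fin m) F) := by
  rw [Subgroup.mem_center_iff]
  intro g
  apply Subtype.ext
  change g.1 * (negOne m F).1 = (negOne m F).1 * g.1
  rw [negOne_coe, mul_neg, neg_mul, mul_one, one_mul]

variable {K : Type*} [Field K] {V : Type*} [AddCommGroup V] [Module K V] {σ : symplecticGroup (Fin m) F →* Module.End K V}

theorem heven {a b : F} (h : a ^ 2 + b ^ 2 = -1) (hσ : σ (negOne m F) = 1) (s : Fin m → K) (v : V)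
    (hv : ∀ i, σ ((qb m h).z i) v = s i • v) : (∏ i, s i) • v = v := by
  classical
  have key : ∀ T : Finset (Fin m), σ (bl (fun i => if i ∈ T then nI else 1)) v = (∏ i ∈ T, s i) • v := by
    intro T
    induction T using Finset.induction_on with
    | empty =>
      have : (fun i : Fin m => if i ∈ (∅ : Finset (Fin m)) then (nI : SpecialLinearGroup (Fin 2) F) else 1) = 1 := by
        funext i; simp
      rw [this, map_one, map_one, Finset.prod_empty, one_smul, Module.End.one_apply]
    | insert a T ha ih =>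
      have : (fun i : Fin m => if i ∈ insert a T then (nI : SpecialLinearGroup (Fin 2) F) else 1) =
          Pi.mulSingle a nI * (fun i => if i ∈ T then nI else 1) := by
        funext i
        rw [Pi.mul_apply]
        by_cases hi : i = a
        · subst hi
          rw [Pi.mulSingle_eq_same, if_pos (Finset.mem_insert_self _ _), if_neg ha, mul_one]
        · rw [Pi.mulSingle_eq_of_ne hi, one_mul]
          simp [Finset.mem_insert, hi]
      rw [this, map_mul, Cfsg.Agent.H637.JW.mul_apply', ih, map_smul]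
      have h1 := hv a
      change σ (bl (Pi.mulSingle a nI)) v = s a • v at h1
      rw [h1, smul_smul, Finset.prod_insert ha, mul_comm]
  have h1 := key Finset.univ
  rw [← h1]
  have h2 : (fun i : Fin m => if i ∈ (Finset.univ : Finset (Fin m)) then (nI : SpecialLinearGroup (Fin 2) F) else 1) =
      fun _ => nI := by
    funext i; simp
  rw [h2]
  change σ (negOne m F) v = v
  rw [hσ, Module.End.one_apply]

theorem exists_sq_add_sq [Fintype F] : ∃ a b : F, a ^ 2 + b ^ 2 = -1 := by
  obtain ⟨p, hp⟩ := CharP.exists F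
  have hp' := CharP.char_is_prime F p
  have : Fact p.Prime := ⟨hp'⟩
  have : NeZero p := ⟨hp'.ne_zero⟩
  obtain ⟨a, b, h⟩ := CharP.sq_add_sq F p (-1)
  exact ⟨a, b, by rw [h]; simp⟩

theorem two_ne_of_odd [Fintype F] (hodd : Odd (Fintype.card F)) : (2 : F) ≠ 0 := by
  intro h
  have h1 : (Fintype.card F : F) = 0 := FiniteField.cast_card_eq_zero F
  obtain ⟨k, hk⟩ := hodd
  rw [hk] at h1
  push_cast at h1
  rw [h, zero_mul, zero_add] at h1
  exact one_ne_zero h1

/-- A non-trivial representation of `Sp_{2m}(F)`, `m ≥ 3`, `-1` trivial, has dimension at least `12`. -/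
theorem sp_twelve [IsAlgClosed K] [FiniteDimensional K V] [Fintype F] (hm : 3 ≤ m) (h2 : (2 : K) ≠ 0)
    (hσ : σ (negOne m F) = 1) (hdim : finrank K V < 12) {a b : F} (h : a ^ 2 + b ^ 2 = -1) (i : Fin m) :
    σ ((qb m h).z i) = 1 := by
  by_contra hne
  have := (qb m h).twelve (σ := σ) h2 (by simpa using hm) (fun π => ⟨pm π, fun i => qb_sym h π i⟩)
    (fun s v hv => heven h hσ s v hv) hne
  omega

end Quat

/-- **`PSp m F`, `m ≥ 3`, `|F|` odd: representations of dimension less than `12` in characteristic `≠ 2` are trivial.** -/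
theorem psp_twelve [Fintype F] (hodd : Odd (Fintype.card F)) (hm : 3 ≤ m) (hs : IsSimpleGroup (Cfsg.PSp m F))
    {K : Type*} [Field K] [IsAlgClosed K] (h2 : (2 : K) ≠ 0) {V : Type*} [AddCommGroup V] [Module K V]
    [FiniteDimensional K V] (σ : Cfsg.PSp m F →* Module.End K V) (hdim : finrank K V < 12) (g : Cfsg.PSp m F) :
    σ g = 1 := by
  obtain ⟨a, b, h⟩ := exists_sq_add_sq (F := F)
  let τ : symplecticGroup (Fin m) F →* Module.End K V := σ.comp (QuotientGroup.mk' _)
  have hτ : τ (negOne m F) = 1 := by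
    change σ (QuotientGroup.mk' _ (negOne m F)) = 1
    rw [show QuotientGroup.mk' (Subgroup.center (symplecticGroup (Fin m) F)) (negOne m F) = 1 from
      (QuotientGroup.eq_one_iff _).2 negOne_mem_center, map_one]
  let i0 : Fin m := ⟨0, by omega⟩
  let i1 : Fin m := ⟨1, by omega⟩
  have h01 : i0 ≠ i1 := by
    intro h0
    have h0' : (0 : ℕ) = 1 := congrArg Fin.val h0
    exact absurd h0' (by decide)
  have h1 : σ (QuotientGroup.mk' _ ((qb m h).z i0)) = 1 := sp_twelve (σ := τ) hm h2 hτ hdim h i0
  let N : Subgroup (Cfsg.PSp m F) :=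
    { carrier := {g | σ g = 1}
      one_mem' := map_one _
      mul_mem' := fun {a b} ha hb => by
        change σ (a * b) = 1
        rw [map_mul, show σ a = 1 from ha, show σ b = 1 from hb, one_mul]
      inv_mem' := fun {a} ha => by
        change σ a⁻¹ = 1
        have : σ a⁻¹ * σ a = 1 := by rw [← map_mul, inv_mul_cancel, map_one]
        rwa [show σ a = 1 from ha, mul_one] at this }
  have hN : N.Normal := ⟨fun n hn g => by
    change σ (g * n * g⁻¹) = 1
    rw [map_mul, map_mul, show σ n = 1 from hn, mul_one, ← map_mul, mul_inv_cancel, map_one]⟩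
  rcases hN.eq_bot_or_eq_top with h3 | h3
  · exfalso
    have h4 : QuotientGroup.mk' (Subgroup.center (symplecticGroup (Fin m) F)) ((qb m h).z i0) ∈ N := h1
    rw [h3, Subgroup.mem_bot, QuotientGroup.mk'_apply, QuotientGroup.eq_one_iff, Subgroup.mem_center_iff] at h4
    have h5 := h4 (pm (swap i0 i1))
    have h6 := qb_sym h (swap i0 i1) i0
    rw [h5, mul_inv_cancel_right, swap_apply_left] at h6
    have h7 : (Pi.mulSingle i0 nI : Fin m → SpecialLinearGroup (Fin 2) F) = Pi.mulSingle i1 nI := bl_injective h6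
    have h8 := congrFun h7 i0
    rw [Pi.mulSingle_eq_same, Pi.mulSingle_eq_of_ne h01] at h8
    exact nI_ne (two_ne_of_odd hodd) h8
  · have : g ∈ N := by rw [h3]; trivial
    exact this

end Cfsg.Agent.H879.TL.Sp
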