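import Mathlib
import Cfsg.Agent.H879.TL.Adapt
import Cfsg.Agent.H879.TL.SpBlk

/-!
# Cores with socle `PSp_{2m}(q)`, `m ≥ 3`, `q` odd (helper879)

**`kill_psp`** : `P ≤ GL(ι, F)` a core without scalars, `char F ≠ 2`, `P ≃ PSp m E`, `|E|` odd, `m ≥ 3`: `|ι| ≥ 12`
(the characteristics of `E` and `F` may be equal or different).
-/

set_option autoImplicit false
set_option linter.unusedSectionVars false

namespace Cfsg.Agent.H879.TL

open Module Matrix Cfsg Cfsg.Geo Cfsg.Agent.H915.LD

universe u v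

variable {ι : Type} [Fintype ι] [DecidableEq ι] {F : Type u} [Field F] {P : Subgroup (GL ι F)}

theorem kill_psp (hC : Core P) (h2 : (2 : F) ≠ 0) (hbot : (scalars ι F).subgroupOf P = ⊥) {m : ℕ} (hm : 3 ≤ m)
    {E : Type v} [Field E] [Fintype E] (hE : Odd (Fintype.card E)) (e : Soc P ≃* Cfsg.PSp m E) :
    12 ≤ Fintype.card ι := by
  by_contra hlt
  have hs := hC.simple
  have hsT : IsSimpleGroup (Cfsg.PSp m E) := e.symm.isSimpleGroup
  exact no_trivial hC ((socEquiv hbot).trans e) fun g =>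
    Sp.psp_twelve hE hm hsT (two_ne_clo h2) _ (by rw [finrank_clo]; omega) g

end Cfsg.Agent.H879.TL
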